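import Groth.Agent.Lib.RegLoc.Basic
import Groth.Agent.Lib.AffDom.Formula
import Mathlib.RingTheory.RegularLocalRing.Defs
import Mathlib.RingTheory.KrullDimension.NonZeroDivisors

/-!
Dimension counts along a smooth subvariety with free conormal module.
-/

universe u

open IsLocalRing

namespace GrothLib.GLSlice

variable {R : Type u} [CommRing R]

/-- some minimal prime over an ideal carries the dimension of the quotient -/
theorem exists_minimalPrime_dim [IsNoetherianRing R] (I : Ideal R) (hI : I ≠ ⊤) :
    ∃ P ∈ I.minimalPrimes, ringKrullDim (R ⧸ I) ≤ ringKrullDim (R ⧸ P) := by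
  have hfin : I.minimalPrimes.Finite := I.finite_minimalPrimes_of_isNoetherianRing
  obtain ⟨P, hP, hmax⟩ := Set.exists_max_image I.minimalPrimes (fun P => ringKrullDim (R ⧸ P)) hfin
    (Set.nonempty_coe_sort.1 (Ideal.nonempty_minimalPrimes hI))
  refine ⟨P, hP, ?_⟩
  rw [ringKrullDim_quotient I, Order.krullDim]
  refine iSup_le fun l => ?_
  obtain ⟨P', hP', hle⟩ := Ideal.exists_minimalPrimes_le (J := (l.head).1.asIdeal) (l.head).2
  refine le_trans ?_ (hmax P' hP')
  rw [ringKrullDim_quotient P', Order.krullDim]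
  exact le_iSup_of_le
    (LTSeries.mk l.length (fun i => (⟨(l i).1, hle.trans (show (l.head).1.asIdeal ≤ (l i).1.asIdeal from
      l.head_le i)⟩ : PrimeSpectrum.zeroLocus (R := R) P')) fun i j h => l.strictMono h) le_rfl

/-- the height in a quotient is bounded by the dimension of an ideal that agrees with it near the prime -/
theorem height_map_quotient_le {J I P : Ideal R} [P.IsPrime] (hJP : J ≤ P) (b : R) (hb : b ∉ P)
    (h : ∀ y ∈ I, b * y ∈ J) :
    ((P.map (Ideal.Quotient.mk J)).height : WithBot ℕ∞) ≤ ringKrullDim (R ⧸ I) := by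
  have hP' : (P.map (Ideal.Quotient.mk J)).IsPrime := Ideal.isPrime_map_quotientMk_of_isPrime hJP
  have hcm : (P.map (Ideal.Quotient.mk J)).comap (Ideal.Quotient.mk J) = P := by
    rw [Ideal.comap_map_of_surjective _ Ideal.Quotient.mk_surjective, ← RingHom.ker_eq_comap_bot,
      Ideal.mk_ker, sup_eq_left.mpr hJP]
  let p : PrimeSpectrum (R ⧸ J) := ⟨_, hP'⟩
  rw [show (P.map (Ideal.Quotient.mk J)).height = Order.height p from PrimeSpectrum.height_eq_orderHeight p,
    Order.height_eq_krullDim_Iic, ringKrullDim_quotient]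
  have hmem : ∀ q : Set.Iic p, PrimeSpectrum.comap (Ideal.Quotient.mk J) q.1 ∈ PrimeSpectrum.zeroLocus (R := R) I :=
    fun q y hy => (q.1.isPrime.mem_or_mem (show Ideal.Quotient.mk J b * Ideal.Quotient.mk J y ∈ q.1.asIdeal by
      rw [← map_mul, Ideal.Quotient.eq_zero_iff_mem.2 (h y hy)]; exact zero_mem _)).resolve_left fun hbq =>
      hb (hcm.le (Ideal.mem_comap.2 (q.2 hbq)))
  refine Order.krullDim_le_of_strictMono (fun q => ⟨_, hmem q⟩) fun q q' hq => ?_
  refine lt_of_le_of_ne (Ideal.comap_mono hq.le) fun he => hq.ne ?_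
  exact Subtype.ext (PrimeSpectrum.comap_injective_of_surjective _ Ideal.Quotient.mk_surjective (congrArg Subtype.val he))

/-- at a minimal prime of a radical ideal with free conormal module the height is the conormal rank -/
theorem height_eq_of_cotangent_basis [IsNoetherianRing R] (I : Ideal R) (hrad : I.IsRadical) {r : ℕ} (f : Fin r → R)
    (hf : ∀ i, f i ∈ I) (hli : LinearIndependent (R ⧸ I) (fun i => I.toCotangent ⟨f i, hf i⟩))
    (hspan : Submodule.span (R ⧸ I) (Set.range fun i => I.toCotangent ⟨f i, hf i⟩) = ⊤)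
    (P : Ideal R) [P.IsPrime] (hP : P ∈ I.minimalPrimes) [IsRegularLocalRing (Localization.AtPrime P)] :
    (P.height : WithBot ℕ∞) = (r : WithBot ℕ∞) := by
  classical
  let L := Localization.AtPrime P
  let g := algebraMap R L
  have hmax : I.map g = maximalIdeal L := by
    rw [← hrad.radical, IsLocalization.map_radical P.primeCompl L,
      IsLocalization.AtPrime.radical_map_of_mem_minimalPrimes L P I hP, Localization.AtPrime.map_eq_maximalIdeal]
  let z : Fin r → maximalIdeal L := fun i => ⟨g (f i), hmax ▸ Ideal.mem_map_of_mem g (hf i)⟩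
  have hgen : maximalIdeal L ≤ Ideal.span (Set.range fun i => g (f i)) := by
    refine (RegLoc.eq_maximalIdeal_of_sup_sq (Ideal.span_le.2 (by rintro _ ⟨i, rfl⟩; exact (z i).2)) ?_).ge
    conv_lhs => rw [← hmax]
    refine Ideal.map_le_iff_le_comap.2 fun y hy => ?_
    have h : I.toCotangent ⟨y, hy⟩ ∈ Submodule.span (R ⧸ I) (Set.range fun i => I.toCotangent ⟨f i, hf i⟩) :=
      hspan ▸ Submodule.mem_top
    obtain ⟨c, hc⟩ := (Submodule.mem_span_range_iff_exists_fun _).1 h
    choose c' hc' using fun i => Ideal.Quotient.mk_surjective (c i)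
    have hv : I.toCotangent (⟨y, hy⟩ - ∑ i, c' i • (⟨f i, hf i⟩ : I)) = 0 := by
      rw [map_sub, ← hc, map_sum, ← Finset.sum_sub_distrib]
      refine Finset.sum_eq_zero fun i _ => ?_
      rw [map_smul, ← hc' i, sub_eq_zero]
      exact IsScalarTower.algebraMap_smul (R ⧸ I) (c' i) _
    have hv' := Ideal.mem_map_of_mem g ((Ideal.toCotangent_eq_zero I _).1 hv)
    rw [Ideal.map_pow, hmax] at hv'
    rw [Ideal.mem_comap]
    refine Submodule.mem_sup.2 ⟨∑ i, g (c' i) * g (f i), Ideal.sum_mem _ fun i _ =>
      Ideal.mul_mem_left _ _ (Ideal.subset_span ⟨i, rfl⟩), _, hv', ?_⟩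
    simp
  have hspan' : ⊤ ≤ Submodule.span (ResidueField L) (Set.range fun i => (maximalIdeal L).toCotangent (z i)) := by
    rintro w -
    obtain ⟨v, rfl⟩ := (maximalIdeal L).toCotangent_surjective w
    obtain ⟨c, hc⟩ := (Submodule.mem_span_range_iff_exists_fun _).1 (hgen v.2)
    refine (Submodule.mem_span_range_iff_exists_fun _).2 ⟨fun i => residue L (c i), ?_⟩
    rw [show v = ∑ i, c i • z i from Subtype.ext (by simpa [z] using hc.symm), map_sum]
    exact Finset.sum_congr rfl fun i _ => by rw [map_smul]; rfl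
  have hli' : LinearIndependent (ResidueField L) (fun i => (maximalIdeal L).toCotangent (z i)) := by
    rw [Fintype.linearIndependent_iff]
    intro c hc i
    choose c' hc' using fun i => residue_surjective (c i)
    have hsum : (maximalIdeal L).toCotangent (∑ i, c' i • z i) = 0 := by
      rw [map_sum, ← hc]
      exact Finset.sum_congr rfl fun i _ => by rw [map_smul, ← hc' i]; rfl
    obtain ⟨s, hs⟩ := IsLocalization.exist_integer_multiples_of_finite P.primeCompl c'
    choose a ha using hs
    have hmem : g (∑ i, a i * f i) ∈ (I ^ 2).map g := by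
      rw [Ideal.map_pow, hmax, map_sum]
      have h2 := (maximalIdeal L ^ 2).mul_mem_left (g (s : R)) ((Ideal.toCotangent_eq_zero _ _).1 hsum)
      convert h2 using 1
      simp only [Submodule.coe_sum, Submodule.coe_smul, Finset.mul_sum, map_mul, z, smul_eq_mul]
      exact Finset.sum_congr rfl fun i _ => by rw [ha i, Algebra.smul_def, mul_assoc]
    obtain ⟨u, hu, hu2⟩ := (IsLocalization.algebraMap_mem_map_algebraMap_iff P.primeCompl L _ _).1 hmem
    have hzero : ∑ i, Ideal.Quotient.mk I (u * a i) • I.toCotangent ⟨f i, hf i⟩ = 0 := by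
      have h0 : I.toCotangent (∑ i, (u * a i) • (⟨f i, hf i⟩ : I)) = 0 := by
        rw [Ideal.toCotangent_eq_zero]
        convert hu2 using 1
        simp [Finset.mul_sum, mul_assoc]
      rw [map_sum] at h0
      refine Eq.trans (Finset.sum_congr rfl fun i _ => ?_) h0
      rw [map_smul]
      exact IsScalarTower.algebraMap_smul (R ⧸ I) (u * a i) _
    have hai : u * a i ∈ P := hP.1.2 (Ideal.Quotient.eq_zero_iff_mem.1 (Fintype.linearIndependent_iff.1 hli _ hzero i))
    have hgai : g (a i) ∈ maximalIdeal L :=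
      (IsLocalization.AtPrime.to_map_mem_maximal_iff L P (a i)).2 (((‹P.IsPrime›).mem_or_mem hai).resolve_left hu)
    rw [← hc' i, residue_eq_zero_iff]
    rw [show g (a i) = g (s : R) * c' i by rw [ha i, Algebra.smul_def]] at hgai
    exact (Ideal.unit_mul_mem_iff_mem _ (IsLocalization.map_units L s)).1 hgai
  have hrk : Module.finrank (ResidueField L) (CotangentSpace L) = r := by
    rw [Module.finrank_eq_card_basis (Module.Basis.mk hli' hspan'), Fintype.card_fin]
  have h := IsRegularLocalRing.spanFinrank_maximalIdeal (R := L)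
  rw [spanFinrank_maximalIdeal_eq_finrank_cotangentSpace, hrk, IsLocalization.AtPrime.ringKrullDim_eq_height P L] at h
  exact h.symm

end GrothLib.GLSlice
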