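import Groth.Agent.Lib.GLSlice.EtaleDescent
import Mathlib.RingTheory.Etale.Locus

/-!
# The saturated neighbourhood of a closed orbit for a finite equivariant map
-/

universe u

open TensorProduct HopfRep GLin

namespace GrothLib.GLSlice

/-- a surjection from an unramified local algebra onto a smooth one is injective -/
theorem injective_of_unramified_smooth {S L T : Type u} [CommRing S] [CommRing L] [IsLocalRing L] [IsNoetherianRing L]
    [CommRing T] [Nontrivial T] [Algebra S L] [Algebra S T] [Algebra.FormallyUnramified S L] [Algebra.FormallySmooth S T]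
    (π : L →ₐ[S] T) (hπ : Function.Surjective π) : Function.Injective π := by
  set I := RingHom.ker π with hI
  have hle : I ≤ I ^ 2 := by
    intro i hi
    let g : (L ⧸ I ^ 2) →ₐ[S] T := Ideal.Quotient.liftₐ (I ^ 2) π fun a ha => Ideal.pow_le_self two_ne_zero ha
    have hg : Function.Surjective g := fun t => by
      obtain ⟨l, rfl⟩ := hπ t
      exact ⟨Ideal.Quotient.mk _ l, rfl⟩
    have hnil : IsNilpotent (RingHom.ker g.toRingHom) := by
      refine ⟨2, le_bot_iff.1 ?_⟩
      have : RingHom.ker g.toRingHom ≤ I.map (Ideal.Quotient.mk (I ^ 2)) := fun c hc => by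
        obtain ⟨l, rfl⟩ := Ideal.Quotient.mk_surjective c
        exact Ideal.mem_map_of_mem _ (show l ∈ I from hc)
      refine (Ideal.pow_right_mono this 2).trans ?_
      rw [← Ideal.map_pow, Ideal.map_quotient_self]
    let σ := Algebra.FormallySmooth.liftOfSurjective (AlgHom.id S T) g hg hnil
    have hσ : ∀ t, g (σ t) = t := fun t =>
      Algebra.FormallySmooth.liftOfSurjective_apply (AlgHom.id S T) g hg hnil t
    have heq : Ideal.Quotient.mkₐ S (I ^ 2) = σ.comp π :=
      Algebra.FormallyUnramified.ext' g.toRingHom hnil _ _ fun l => (hσ (π l)).symm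
    have h1 := AlgHom.congr_fun heq i
    rw [AlgHom.comp_apply, show π i = 0 from hi, map_zero] at h1
    exact Ideal.Quotient.eq_zero_iff_mem.1 h1
  rw [RingHom.injective_iff_ker_eq_bot]
  refine Submodule.eq_bot_of_le_smul_of_le_jacobson_bot I I (IsNoetherian.noetherian I) ?_
    ((IsLocalRing.le_maximalIdeal (RingHom.ker_ne_top π)).trans (IsLocalRing.maximalIdeal_le_jacobson ⊥))
  rwa [smul_eq_mul, ← pow_two]

/-- unramified base change at a prime -/
theorem formallyUnramified_localization_tensor {S₀ S R₀ : Type u} [CommRing S₀] [CommRing S] [CommRing R₀]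
    [Algebra S₀ S] [Algebra S₀ R₀] (b : Ideal (S ⊗[S₀] R₀)) [b.IsPrime] (q : Ideal R₀) [q.IsPrime]
    [Algebra.FormallyUnramified S₀ (Localization.AtPrime q)]
    (hq : ∀ t : R₀, t ∉ q → (1 : S) ⊗ₜ[S₀] t ∉ b) :
    Algebra.FormallyUnramified S (Localization.AtPrime b) := by
  let L := Localization.AtPrime b
  let ℓ : Localization.AtPrime q →ₐ[S₀] L :=
    IsLocalization.liftAlgHom (M := q.primeCompl)
      (f := (IsScalarTower.toAlgHom S₀ (S ⊗[S₀] R₀) L).comp Algebra.TensorProduct.includeRight)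
      fun t => IsLocalization.map_units L (⟨_, hq t t.2⟩ : b.primeCompl)
  refine Algebra.FormallyUnramified.iff_comp_injective.2 fun C _ _ I hI h₁ h₂ h => ?_
  letI : Algebra S₀ C := ((algebraMap S C).comp (algebraMap S₀ S)).toAlgebra
  haveI : IsScalarTower S₀ S C := IsScalarTower.of_algebraMap_eq' rfl
  have hk : (h₁.restrictScalars S₀).comp ℓ = (h₂.restrictScalars S₀).comp ℓ :=
    Algebra.FormallyUnramified.comp_injective I hI (AlgHom.ext fun t => AlgHom.congr_fun h (ℓ t))
  have hB : h₁.comp (IsScalarTower.toAlgHom S (S ⊗[S₀] R₀) L) = h₂.comp (IsScalarTower.toAlgHom S (S ⊗[S₀] R₀) L) := by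
    refine Algebra.TensorProduct.ext (Subsingleton.elim _ _) (AlgHom.ext fun t => ?_)
    have := AlgHom.congr_fun hk (algebraMap R₀ (Localization.AtPrime q) t)
    simpa [ℓ, IsLocalization.lift_eq] using this
  exact IsLocalization.algHom_ext b.primeCompl hB

variable {k : Type u} [Field k] [IsAlgClosed k] {A : Type u} [CommRing A] [IsReduced A] [HopfAlgebra k A]
  [Algebra.FiniteType k A]

omit [IsReduced A] in
/-- closed orbits over prescribed values of the invariants -/
theorem exists_closedOrbit_over (hG : IsLinearlyReductive k A) {R : Type u} [CommRing R] [Algebra k R]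
    [Algebra.FiniteType k R] [Comod k A R] [IsCoactAlg k A R] {R₀ : Type u} [CommRing R₀] [Algebra k R₀]
    (ι : R₀ →ₐ[k] R) (hι : Function.Injective ι) (hr : ι.range = GLin.invariants k A R) (a : R₀ →ₐ[k] k) :
    ∃ z : R →ₐ[k] k, GLin.IsClosedOrbit k A z ∧ z.comp ι = a := by
  let e : R₀ ≃ₐ[k] GLin.invariants k A R := (AlgEquiv.ofInjective ι hι).trans (Subalgebra.equivOfEq _ _ hr)
  obtain ⟨z, -, hz⟩ := GrothLib.AffQuot.exists_lift hG (⊥ : Ideal R)
    (by rw [Submodule.restrictScalars_bot]; exact fun w hw => by simp [(Submodule.mem_bot k).1 hw])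
    (a.comp e.symm.toAlgHom) (fun f hf => by
      rw [show f = 0 from Subtype.ext (Submodule.mem_bot R |>.1 hf), map_zero])
  obtain ⟨w, hw, hwc⟩ := GrothLib.AffQuot.exists_closed_orbit (A := A) z
  refine ⟨w, (GrothLib.AffQuot.isClosedOrbit_iff w).2 hwc, AlgHom.ext fun r => ?_⟩
  have h1 : (e r : R) = ι r := rfl
  rw [AlgHom.comp_apply, ← h1, hw.invariant (e r).2, hz]
  simp

set_option maxHeartbeats 1000000 in
/-- the saturated neighbourhood, finite case -/
theorem exists_saturated_finite (hG : IsLinearlyReductive k A)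
    (S : Type u) [CommRing S] [IsReduced S] [Algebra k S] [Algebra.FiniteType k S] [Comod k A S] [IsCoactAlg k A S]
    (R : Type u) [CommRing R] [IsReduced R] [Algebra k R] [Algebra.FiniteType k R] [Comod k A R] [IsCoactAlg k A R]
    [Algebra S R] [IsScalarTower k S R] [Module.Finite S R]
    (hf : IsEquiv (A := A) (IsScalarTower.toAlgHom k S R))
    (S₀ : Type u) [CommRing S₀] [Algebra k S₀] [Algebra S₀ S] [IsScalarTower k S₀ S]
    (hS₀i : Function.Injective (algebraMap S₀ S)) (hS₀ : (IsScalarTower.toAlgHom k S₀ S).range = GLin.invariants k A S)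
    (R₀ : Type u) [CommRing R₀] [Algebra k R₀] [Algebra R₀ R] [IsScalarTower k R₀ R]
    (hR₀i : Function.Injective (algebraMap R₀ R)) (hR₀ : (IsScalarTower.toAlgHom k R₀ R).range = GLin.invariants k A R)
    [Algebra S₀ R₀] [Algebra S₀ R] [IsScalarTower S₀ S R] [IsScalarTower S₀ R₀ R]
    (x : R →ₐ[k] k) (hx : GLin.IsClosedOrbit k A x) (m : Ideal R) [m.IsMaximal] (hm : m = RingHom.ker x.toRingHom)
    (het : Algebra.IsEtaleAt S m)
    (hinj : ∀ g : A →ₐ[k] k, GLin.actPt k g (x.comp (IsScalarTower.toAlgHom k S R)) = x.comp (IsScalarTower.toAlgHom k S R) →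
      GLin.actPt k g x = x) :
    ∃ u : R₀, x (algebraMap R₀ R u) ≠ 0 ∧
      (∀ (q : Ideal R₀) [q.IsPrime], u ∉ q → Algebra.IsEtaleAt S₀ q) ∧
      (∀ (Q : Ideal R) [Q.IsPrime], algebraMap R₀ R u ∉ Q → Algebra.IsEtaleAt S Q) ∧
      (∀ z : S ⊗[S₀] R₀, Algebra.TensorProduct.productMap (IsScalarTower.toAlgHom S₀ S R) (IsScalarTower.toAlgHom S₀ R₀ R) z = 0 →
        ∃ n : ℕ, ((1 : S) ⊗ₜ[S₀] u) ^ n * z = 0) ∧
      (∀ r : R, ∃ (n : ℕ) (z : S ⊗[S₀] R₀),
        Algebra.TensorProduct.productMap (IsScalarTower.toAlgHom S₀ S R) (IsScalarTower.toAlgHom S₀ R₀ R) z =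
          algebraMap R₀ R u ^ n * r) := by
  classical
  obtain ⟨hetq, hsurjq⟩ := isEtaleAt_invariants_and_surjective hG S R hf S₀ hS₀i hS₀ R₀ hR₀i hR₀ x hx m hm het hinj
  set f : S →ₐ[k] R := IsScalarTower.toAlgHom k S R
  set σ : S₀ →ₐ[k] S := IsScalarTower.toAlgHom k S₀ S
  set ι : R₀ →ₐ[k] R := IsScalarTower.toAlgHom k R₀ R
  have hsq : ∀ a : S₀, ι (algebraMap S₀ R₀ a) = f (σ a) := fun a => by
    change algebraMap R₀ R (algebraMap S₀ R₀ a) = algebraMap S R (algebraMap S₀ S a)
    rw [← IsScalarTower.algebraMap_apply, ← IsScalarTower.algebraMap_apply]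
  haveI : IsScalarTower k S₀ R₀ := IsScalarTower.of_algebraMap_eq fun c => hR₀i (by
    change ι (algebraMap k R₀ c) = ι (algebraMap S₀ R₀ (algebraMap k S₀ c))
    rw [hsq, AlgHom.commutes, AlgHom.commutes, AlgHom.commutes])
  have hσinv : ∀ a, σ a ∈ GLin.invariants k A S := fun a => hS₀ ▸ (σ.mem_range_self a)
  have hιinv : ∀ a, ι a ∈ GLin.invariants k A R := fun a => hR₀ ▸ (ι.mem_range_self a)
  haveI : Algebra.FiniteType k S₀ := finiteType_of_range_eq hG σ hS₀i hS₀
  haveI : Algebra.FiniteType k R₀ := finiteType_of_range_eq hG ι hR₀i hR₀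
  haveI : IsNoetherianRing S₀ := Algebra.FiniteType.isNoetherianRing k S₀
  haveI : IsNoetherianRing S := Algebra.FiniteType.isNoetherianRing k S
  haveI : Algebra.FiniteType S₀ R₀ := Algebra.FiniteType.of_restrictScalars_finiteType k S₀ R₀
  haveI : Algebra.FinitePresentation S₀ R₀ := Algebra.FinitePresentation.of_finiteType.1 inferInstance
  haveI : Algebra.FiniteType k (S ⊗[S₀] R₀) := Algebra.FiniteType.trans (S := S) inferInstance inferInstance
  haveI : IsNoetherianRing (S ⊗[S₀] R₀) := Algebra.FiniteType.isNoetherianRing k _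
  set Φ : S ⊗[S₀] R₀ →ₐ[S] R :=
    Algebra.TensorProduct.lift (Algebra.ofId S R) (IsScalarTower.toAlgHom S₀ R₀ R) fun _ _ => Commute.all _ _
  have hΦt : ∀ (s : S) (a : R₀), Φ (s ⊗ₜ a) = f s * ι a := fun s a => rfl
  have hΦ : ∀ z, Algebra.TensorProduct.productMap (IsScalarTower.toAlgHom S₀ S R) (IsScalarTower.toAlgHom S₀ R₀ R) z = Φ z := fun z => by
    induction z using TensorProduct.induction_on with
    | zero => simp
    | tmul s a => rfl
    | add p q hp hq => simp only [map_add, hp, hq]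
  simp only [hΦ]
  -- translations
  let τ : (A →ₐ[k] k) → (S →ₐ[S₀] S) := fun g =>
    { (actAlg S g).toRingHom with commutes' := fun a => actAlg_invariant g (hσinv a) }
  let T : (A →ₐ[k] k) → (S ⊗[S₀] R₀ →ₐ[S₀] S ⊗[S₀] R₀) := fun g =>
    Algebra.TensorProduct.map (τ g) (AlgHom.id S₀ R₀)
  have hTt : ∀ g (s : S) (a : R₀), T g (s ⊗ₜ a) = actAlg S g s ⊗ₜ a := fun g s a => rfl
  have hTΦ : ∀ g z, Φ (T g z) = actAlg R g (Φ z) := fun g z => by
    induction z using TensorProduct.induction_on with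
    | zero => simp
    | tmul s a => rw [hTt, hΦt, hΦt, map_mul, hf.actAlg_map, actAlg_invariant g (hιinv a)]
    | add p q hp hq => simp only [map_add, hp, hq]
  have hTinv : ∀ g, ∃ h, ∀ z, T g (T h z) = z := fun g => by
    obtain ⟨h, hh⟩ := exists_actAlg_inv (R := S) g
    refine ⟨h, fun z => ?_⟩
    induction z using TensorProduct.induction_on with
    | zero => simp
    | tmul s a => rw [hTt, hTt, hh]
    | add p q hp hq => simp only [map_add, hp, hq]
  set q : Ideal R₀ := Ideal.comap (algebraMap R₀ R) m with hqdef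
  have hqmem : ∀ a, a ∈ q ↔ x (ι a) = 0 := fun a => by rw [hqdef, hm, Ideal.mem_comap]; rfl
  haveI : q.IsPrime := Ideal.IsPrime.comap _
  -- the étale locus of the quotient map
  obtain ⟨_, ⟨u₁, rfl⟩, hu₁, hu₁sub⟩ := (PrimeSpectrum.isTopologicalBasis_basic_opens (R := R₀)).exists_subset_of_mem_open
    (show (⟨q, inferInstance⟩ : PrimeSpectrum R₀) ∈ Algebra.etaleLocus S₀ R₀ from hetq) Algebra.isOpen_etaleLocus
  -- surjectivity
  let M : Submodule S R := LinearMap.range Φ.toLinearMap
  let C : Ideal R :=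
    { carrier := {c | ∀ r, c * r ∈ M}
      add_mem' := fun ha hb r => by rw [add_mul]; exact M.add_mem (ha r) (hb r)
      zero_mem' := fun r => by rw [zero_mul]; exact M.zero_mem
      smul_mem' := fun c a ha r => by rw [smul_eq_mul, mul_comm c a, mul_assoc]; exact ha _ }
  obtain ⟨_, hv, hvC, hvx⟩ : ∃ v ∈ GLin.invariants k A R, v ∈ C ∧ x v ≠ 0 := by
    refine exists_invariant_not_eq_zero hG C (fun g c hc r => ?_) x fun z hz => ?_
    · obtain ⟨h, hh⟩ := exists_actAlg_inv (R := R) g
      obtain ⟨b, hb⟩ := hc (actAlg R h r)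
      refine ⟨T g b, ?_⟩
      change Φ (T g b) = _
      rw [hTΦ, show Φ b = c * actAlg R h r from hb, map_mul, hh]
    · by_contra hne
      push Not at hne
      let B' := Φ.range
      let Iq : Ideal B' := q.map (Φ.rangeRestrict.toRingHom.comp Algebra.TensorProduct.includeRight.toRingHom)
      haveI : Module.Finite B' R := Module.Finite.of_restrictScalars_finite S B' R
      have hz0 : ∀ b : B', b ∈ Iq → z (b : R) = 0 := fun b hb => by
        induction hb using Submodule.span_induction with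
        | mem b hb =>
          obtain ⟨a, ha, rfl⟩ := hb
          change z (Φ ((1 : S) ⊗ₜ a)) = 0
          rw [hΦt, map_one, one_mul, hne (ι a) (hιinv a)]
          exact (hqmem a).1 ha
        | zero => simp
        | add a b _ _ ha hb => rw [AddMemClass.coe_add, map_add, ha, hb, add_zero]
        | smul c a _ ha => rw [smul_eq_mul, MulMemClass.coe_mul, map_mul, ha, mul_zero]
      let N : Submodule B' R := Submodule.span B' {1}
      have htop : (⊤ : Submodule B' (R ⧸ N)) ≤ Iq • ⊤ := by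
        rintro t -
        induction t using Submodule.Quotient.induction_on with | _ r => ?_
        obtain ⟨s, hs⟩ := hsurjq r
        have hmk : Submodule.Quotient.mk (p := N) r = Submodule.Quotient.mk (r - f s) := by
          rw [Submodule.Quotient.eq, sub_sub_cancel]
          exact Submodule.mem_span_singleton.2 ⟨⟨f s, ⟨s ⊗ₜ 1, by
            change Φ (s ⊗ₜ 1) = f s
            rw [hΦt, map_one, mul_one]⟩⟩, mul_one _⟩
        rw [hmk]
        suffices ∀ w ∈ q.map (algebraMap R₀ R), ∀ c : R, Submodule.Quotient.mk (p := N) (c * w) ∈ Iq • ⊤ by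
          have h3 := this _ hs 1
          rw [one_mul] at h3
          exact h3
        intro w hw
        induction hw using Submodule.span_induction with
        | mem w hw =>
          obtain ⟨a, ha, rfl⟩ := hw
          intro c
          have : Submodule.Quotient.mk (p := N) (c * algebraMap R₀ R a) =
              (Φ.rangeRestrict ((1 : S) ⊗ₜ a) : B') • Submodule.Quotient.mk (p := N) c := by
            rw [← Submodule.Quotient.mk_smul]
            congr 1
            change _ = Φ ((1 : S) ⊗ₜ a) * c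
            rw [hΦt, map_one, one_mul, mul_comm]; rfl
          rw [this]
          exact Submodule.smul_mem_smul (Ideal.mem_map_of_mem (Φ.rangeRestrict.toRingHom.comp Algebra.TensorProduct.includeRight.toRingHom) ha) Submodule.mem_top
        | zero => intro c; simp
        | add a b _ _ ha hb => intro c; rw [mul_add, Submodule.Quotient.mk_add]; exact add_mem (ha c) (hb c)
        | smul c a _ ha => intro d; rw [smul_eq_mul, ← mul_assoc]; exact ha _
      obtain ⟨b, hb, hb0⟩ := Submodule.exists_sub_one_mem_and_smul_eq_zero_of_fg_of_le_smul Iq ⊤ Module.Finite.fg_top htop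
      have hbC : (b : R) ∈ C := fun r => by
        have h1 := hb0 (Submodule.Quotient.mk r) Submodule.mem_top
        rw [← Submodule.Quotient.mk_smul, Submodule.Quotient.mk_eq_zero, Submodule.mem_span_singleton] at h1
        obtain ⟨⟨c, d, hd⟩, hc⟩ := h1
        refine ⟨d, ?_⟩
        change Φ d = (b : R) * r
        rw [show (b : R) * r = b • r from rfl, ← hc]
        exact hd.trans (mul_one c).symm
      have h2 := hz0 _ hb
      rw [AddSubgroupClass.coe_sub, map_sub, hz _ hbC, OneMemClass.coe_one, map_one, zero_sub, neg_eq_zero] at h2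
      exact one_ne_zero h2
  obtain ⟨v, rfl⟩ := (AlgHom.mem_range ι).1 (hR₀ ▸ hv)
  -- the kernel
  let K : Ideal (S ⊗[S₀] R₀) := RingHom.ker Φ
  let AK : Ideal (S ⊗[S₀] R₀) :=
    { carrier := {c | ∀ z ∈ K, c * z = 0}
      add_mem' := fun ha hb z hz => by rw [add_mul, ha z hz, hb z hz, add_zero]
      zero_mem' := fun z _ => zero_mul z
      smul_mem' := fun c a ha z hz => by rw [smul_eq_mul, mul_assoc, ha z hz, mul_zero] }
  have hAKT : ∀ g, ∀ c ∈ AK, T g c ∈ AK := fun g c hc z hz => by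
    obtain ⟨h, hh⟩ := hTinv g
    rw [← hh z, ← map_mul, hc _ (show Φ (T h z) = 0 by rw [hTΦ, show Φ z = 0 from hz, map_zero]), map_zero]
  let E : Ideal R := AK.map Φ.toRingHom
  have hET : ∀ g, ∀ a ∈ E, actAlg R g a ∈ E := fun g a ha => by
    induction ha using Submodule.span_induction with
    | mem a ha =>
      obtain ⟨c, hc, rfl⟩ := ha
      exact hTΦ g c ▸ Ideal.mem_map_of_mem Φ.toRingHom (hAKT g c hc)
    | zero => simp
    | add a b _ _ ha hb => rw [map_add]; exact E.add_mem ha hb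
    | smul c a _ ha => rw [smul_eq_mul, map_mul]; exact E.mul_mem_left _ ha
  let b : Ideal (S ⊗[S₀] R₀) := m.comap Φ.toRingHom
  haveI : b.IsPrime := Ideal.IsPrime.comap _
  have hEx : ∃ c ∈ AK, x (Φ c) ≠ 0 := by
    have hbq : ∀ t : R₀, t ∉ q → (1 : S) ⊗ₜ[S₀] t ∉ b := fun t ht h => ht (by
      rw [Ideal.mem_comap, hm, RingHom.mem_ker] at h
      change x (Φ (1 ⊗ₜ t)) = 0 at h
      rw [hΦt, map_one, one_mul] at h
      exact (hqmem t).2 h)
    haveI : Algebra.FormallyUnramified S₀ (Localization.AtPrime q) :=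
      (Algebra.FormallyEtale.iff_formallyUnramified_and_formallySmooth.mp hetq).1
    haveI : Algebra.FormallyUnramified S (Localization.AtPrime b) := formallyUnramified_localization_tensor b q hbq
    haveI : Algebra.FormallySmooth S (Localization.AtPrime m) :=
      (Algebra.FormallyEtale.iff_formallyUnramified_and_formallySmooth.mp het).2
    haveI : IsNoetherianRing (Localization.AtPrime b) := IsLocalization.isNoetherianRing b.primeCompl _ inferInstance
    let π : Localization.AtPrime b →ₐ[S] Localization.AtPrime m :=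
      IsLocalization.liftAlgHom (M := b.primeCompl)
        (f := (IsScalarTower.toAlgHom S R (Localization.AtPrime m)).comp Φ)
        fun c => IsLocalization.map_units (Localization.AtPrime m) (⟨Φ c, c.2⟩ : m.primeCompl)
    have hπ : ∀ c, π (algebraMap _ (Localization.AtPrime b) c) = algebraMap R (Localization.AtPrime m) (Φ c) := fun c => by
      simp [π, IsLocalization.lift_eq]
    have hπsurj : Function.Surjective π := by
      intro w
      obtain ⟨r, t, rfl⟩ := IsLocalization.exists_mk'_eq m.primeCompl w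
      obtain ⟨c, hc⟩ := hvC r
      obtain ⟨d, hd⟩ := hvC t
      change Φ c = _ at hc
      change Φ d = _ at hd
      have hdb : d ∉ b := fun h => by
        rw [Ideal.mem_comap] at h
        change Φ d ∈ m at h
        rw [hd] at h
        exact ((‹m.IsMaximal›.isPrime.mem_or_mem h).elim (fun hh => hvx (by rw [hm] at hh; exact hh)) t.2)
      refine ⟨IsLocalization.mk' _ c (⟨d, hdb⟩ : b.primeCompl), ?_⟩
      refine (IsLocalization.map_units (Localization.AtPrime m) (⟨Φ d, hdb⟩ : m.primeCompl)).mul_right_cancel ?_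
      change π _ * algebraMap R _ (Φ d) = _ * algebraMap R _ (Φ d)
      conv_lhs => rw [← hπ d, ← map_mul, IsLocalization.mk'_spec, hπ]
      rw [hc, hd, map_mul, map_mul, mul_comm (algebraMap R (Localization.AtPrime m) (ι v)) (algebraMap R _ (t : R)),
        ← mul_assoc, IsLocalization.mk'_spec, mul_comm]
    have hπinj := injective_of_unramified_smooth π hπsurj
    have hloc : ∀ z ∈ K, ∃ c : S ⊗[S₀] R₀, c ∉ b ∧ c * z = 0 := fun z hz => by
      have h0 : algebraMap _ (Localization.AtPrime b) z = 0 :=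
        hπinj (by rw [hπ, show Φ z = 0 from hz, map_zero, map_zero])
      obtain ⟨c, hc⟩ := (IsLocalization.map_eq_zero_iff b.primeCompl _ z).1 h0
      exact ⟨c, c.2, hc⟩
    obtain ⟨G, hGK⟩ := IsNoetherian.noetherian K
    choose U hU hUG using fun z : G => hloc z (hGK ▸ Submodule.subset_span z.2)
    refine ⟨∏ z, U z, fun z hz => ?_, fun h => ?_⟩
    · rw [← hGK] at hz
      induction hz using Submodule.span_induction with
      | mem z hz =>
        obtain ⟨c, hc⟩ := Finset.dvd_prod_of_mem U (Finset.mem_univ (⟨z, hz⟩ : G))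
        rw [hc, mul_right_comm, hUG ⟨z, hz⟩, zero_mul]
      | zero => simp
      | add a b _ _ ha hb => rw [mul_add, ha, hb, add_zero]
      | smul c a _ ha => rw [smul_eq_mul, mul_left_comm, ha, mul_zero]
    · rw [map_prod, map_prod, Finset.prod_eq_zero_iff] at h
      obtain ⟨z, -, hz⟩ := h
      refine hU z ?_
      rw [Ideal.mem_comap, hm]; exact hz
  obtain ⟨_, hv3, hv3E, hv3x⟩ : ∃ v ∈ GLin.invariants k A R, v ∈ E ∧ x v ≠ 0 := by
    refine exists_invariant_not_eq_zero hG E hET x fun z hz => ?_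
    by_contra hne
    push Not at hne
    obtain ⟨c, hc, hcx⟩ := hEx
    refine hcx (le_ker_of_cl E (fun g a ha => actAlg_apply g a ▸ hET g a ha) hz
      (GrothLib.AffQuot.cl_of_closed hG ((GrothLib.AffQuot.isClosedOrbit_iff x).1 hx) hne) _
      (Ideal.mem_map_of_mem Φ.toRingHom hc))
  obtain ⟨v₃, rfl⟩ := (AlgHom.mem_range ι).1 (hR₀ ▸ hv3)
  have hker : ∀ z ∈ K, ∃ n : ℕ, ((1 : S) ⊗ₜ[S₀] v₃) ^ n * z = 0 := by
    have hrad : (1 : S) ⊗ₜ[S₀] v₃ ∈ AK.radical := by
      by_contra hnot
      obtain ⟨P, hP, hAKP, hvP⟩ : ∃ P : Ideal (S ⊗[S₀] R₀), P.IsPrime ∧ AK ≤ P ∧ (1 : S) ⊗ₜ[S₀] v₃ ∉ P := by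
        rw [Ideal.radical_eq_sInf, Submodule.mem_sInf] at hnot
        push Not at hnot
        obtain ⟨P, hP, hv⟩ := hnot
        exact ⟨P, hP.2, hP.1, hv⟩
      obtain ⟨π, hπP, hπv⟩ := GrothLib.AffQuot.exists_point_ne_zero (k := k) hvP
      let incR : R₀ →ₐ[k] S ⊗[S₀] R₀ := (Algebra.TensorProduct.includeRight : R₀ →ₐ[S₀] S ⊗[S₀] R₀).restrictScalars k
      let incL : S →ₐ[k] S ⊗[S₀] R₀ := (Algebra.TensorProduct.includeLeft : S →ₐ[S₀] S ⊗[S₀] R₀).restrictScalars k
      set a : R₀ →ₐ[k] k := π.comp incR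
      set w : S →ₐ[k] k := π.comp incL
      obtain ⟨z₀, hz₀, hz₀a⟩ := exists_closedOrbit_over hG ι hR₀i hR₀ a
      have hπt : ∀ (s : S) (r : R₀), π (s ⊗ₜ r) = w s * a r := fun s r => by
        rw [← mul_one s, ← one_mul r, ← Algebra.TensorProduct.tmul_mul_tmul, map_mul, mul_one, one_mul]; rfl
      have hwσ : ∀ t, w (σ t) = a (algebraMap S₀ R₀ t) := fun t => by
        change π ((σ t) ⊗ₜ 1) = π (1 ⊗ₜ algebraMap S₀ R₀ t)
        congr 1
        change algebraMap S₀ S t ⊗ₜ (1 : R₀) = _
        rw [Algebra.algebraMap_eq_smul_one, Algebra.algebraMap_eq_smul_one, TensorProduct.smul_tmul]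
      have hclS : GrothLib.AffQuot.Cl k A w (z₀.comp f) := by
        refine GrothLib.AffQuot.cl_of_closed hG ((GrothLib.AffQuot.isClosedOrbit_iff _).1 (isClosedOrbit_comp hf hz₀)) fun y hy => ?_
        obtain ⟨t, rfl⟩ := (AlgHom.mem_range σ).1 (hS₀ ▸ hy : y ∈ σ.range)
        rw [hwσ]
        change a (algebraMap S₀ R₀ t) = z₀ (f (σ t))
        rw [← hsq]
        exact (AlgHom.congr_fun hz₀a _).symm
      have hzero : ∀ c ∈ AK, z₀ (Φ c) = 0 := by
        intro c hc
        obtain ⟨F, hF⟩ := TensorProduct.exists_finset c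
        let cₐ : S := ∑ i ∈ F, a i.2 • i.1
        have hval : ∀ (w' : S →ₐ[k] k), w' cₐ = ∑ i ∈ F, w' i.1 * a i.2 := fun w' => by
          simp only [cₐ, map_sum, map_smul, smul_eq_mul, mul_comm]
        have h0 : (z₀.comp f) cₐ = 0 := by
          refine (GrothLib.AffQuot.cl_iff.1 hclS) cₐ fun g => ?_
          rw [apply_act, ← point_actAlg, hval]
          refine Eq.trans ?_ (hπP _ (hAKP (hAKT g c hc)))
          rw [hF, map_sum, map_sum]
          exact Finset.sum_congr rfl fun i _ => by rw [hTt, hπt]; rfl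
        rw [hval] at h0
        rw [hF, map_sum, map_sum, ← h0]
        refine Finset.sum_congr rfl fun i _ => ?_
        rw [hΦt, map_mul, ← hz₀a]
        rfl
      have hE0 : ∀ e ∈ E, z₀ e = 0 := fun e he =>
        (Ideal.map_le_iff_le_comap (K := RingHom.ker z₀)).2 (fun c hc => show z₀ (Φ c) = 0 from hzero c hc) he
      exact hπv ((AlgHom.congr_fun hz₀a v₃).symm.trans (hE0 _ hv3E))
    obtain ⟨n, hn⟩ := hrad
    exact fun z hz => ⟨n, hn z hz⟩
  -- conclusion
  obtain ⟨u, hu⟩ : ∃ u : R₀, u = u₁ * v * v₃ := ⟨_, rfl⟩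
  have hinjfin : ∀ z, Φ z = 0 → ∃ n : ℕ, ((1 : S) ⊗ₜ[S₀] u) ^ n * z = 0 := fun z hz => by
    obtain ⟨n, hn⟩ := hker z hz
    refine ⟨n, ?_⟩
    rw [hu, ← one_mul (1 : S), ← Algebra.TensorProduct.tmul_mul_tmul, mul_pow, mul_assoc, hn, mul_zero]
  have hsurjfin : ∀ r : R, ∃ (n : ℕ) (z : S ⊗[S₀] R₀), Φ z = ι u ^ n * r := fun r => by
    obtain ⟨d, hd⟩ := hvC (ι (u₁ * v₃) * r)
    refine ⟨1, d, ?_⟩
    change Φ d = _ at hd
    rw [hd, hu, pow_one, map_mul, map_mul, map_mul]
    ring
  have hsub : ↑(PrimeSpectrum.basicOpen u) ⊆ Algebra.etaleLocus S₀ R₀ := by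
    refine Set.Subset.trans (fun P hP => ?_) hu₁sub
    change u₁ ∉ P.asIdeal
    intro h
    exact hP (by rw [hu, mul_assoc]; exact P.asIdeal.mul_mem_right _ h)
  refine ⟨u, ?_, fun P hP huP => hsub (a := ⟨P, hP⟩) huP, ?_, hinjfin, hsurjfin⟩
  · change x (ι u) ≠ 0
    rw [hu, map_mul, map_mul, map_mul, map_mul]
    exact mul_ne_zero (mul_ne_zero (fun h => hu₁ ((hqmem u₁).2 h)) hvx) hv3x
  · -- étale upstairs
    haveI : Algebra.Etale S₀ (Localization.Away u) := Algebra.basicOpen_subset_etaleLocus_iff_etale.1 hsub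
    let L₀ := Localization.Away u
    let R' := Localization.Away (ι u)
    let j : L₀ →ₐ[S₀] R' := IsLocalization.liftAlgHom (M := Submonoid.powers u)
      (f := IsScalarTower.toAlgHom S₀ R₀ R |> (IsScalarTower.toAlgHom S₀ R R').comp) (by
        rintro ⟨_, n, rfl⟩
        change IsUnit (algebraMap R R' (ι (u ^ n)))
        rw [map_pow, map_pow]
        exact (IsLocalization.Away.algebraMap_isUnit (S := R') (ι u)).pow n)
    let Ψ : S ⊗[S₀] L₀ →ₐ[S] R' := Algebra.TensorProduct.lift (Algebra.ofId S R') j fun _ _ => Commute.all _ _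
    let inc : S ⊗[S₀] R₀ →ₐ[S] S ⊗[S₀] L₀ :=
      Algebra.TensorProduct.map (AlgHom.id S S) (IsScalarTower.toAlgHom S₀ R₀ L₀)
    have hΨinc : ∀ z, Ψ (inc z) = algebraMap R R' (Φ z) := fun z => by
      induction z using TensorProduct.induction_on with
      | zero => simp
      | add p q hp hq => simp only [map_add, hp, hq]
      | tmul s a =>
        change algebraMap S R' s * j (algebraMap R₀ L₀ a) = algebraMap R R' (f s * ι a)
        rw [map_mul, show j (algebraMap R₀ L₀ a) = algebraMap R R' (ι a) by simp [j, IsLocalization.lift_eq]; rfl,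
          IsScalarTower.algebraMap_apply S R R']
        rfl
    have hU : IsUnit (inc ((1 : S) ⊗ₜ u)) :=
      (IsLocalization.Away.algebraMap_isUnit (S := L₀) u).map (Algebra.TensorProduct.includeRight : L₀ →ₐ[S₀] S ⊗[S₀] L₀)
    have hden : ∀ w : S ⊗[S₀] L₀, ∃ (n : ℕ) (z : S ⊗[S₀] R₀), inc ((1 : S) ⊗ₜ u) ^ n * w = inc z := by
      intro w
      induction w using TensorProduct.induction_on with
      | zero => exact ⟨0, 0, by simp⟩
      | tmul s l =>
        obtain ⟨n, a, ha⟩ := IsLocalization.Away.surj u l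
        refine ⟨n, s ⊗ₜ a, ?_⟩
        change ((1 : S) ⊗ₜ[S₀] algebraMap R₀ L₀ u) ^ n * _ = s ⊗ₜ algebraMap R₀ L₀ a
        rw [Algebra.TensorProduct.tmul_pow, Algebra.TensorProduct.tmul_mul_tmul, one_pow, one_mul, mul_comm, ha]
      | add w w' hw hw' =>
        obtain ⟨n, z, hz⟩ := hw
        obtain ⟨n', z', hz'⟩ := hw'
        refine ⟨n + n', ((1 : S) ⊗ₜ u) ^ n' * z + ((1 : S) ⊗ₜ u) ^ n * z', ?_⟩
        rw [map_add, map_mul, map_mul, map_pow, map_pow, ← hz, ← hz', pow_add]
        ring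
    have hbij : Function.Bijective Ψ := by
      refine ⟨(injective_iff_map_eq_zero Ψ).2 fun w hw => ?_, fun r' => ?_⟩
      · obtain ⟨n, z, hz⟩ := hden w
        have h1 : algebraMap R R' (Φ z) = 0 := by rw [← hΨinc, ← hz, map_mul, hw, mul_zero]
        obtain ⟨⟨_, l, rfl⟩, hl⟩ := (IsLocalization.map_eq_zero_iff (Submonoid.powers (ι u)) R' _).1 h1
        obtain ⟨n', hn'⟩ := hinjfin (((1 : S) ⊗ₜ u) ^ l * z) (by
          rw [map_mul, map_pow, hΦt, map_one, one_mul]; exact hl)
        have h2 := congrArg inc hn'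
        rw [map_zero, map_mul, map_mul, map_pow, map_pow, ← hz] at h2
        rw [← mul_assoc, ← mul_assoc] at h2
        exact (((hU.pow n').mul (hU.pow l)).mul (hU.pow n)).mul_right_eq_zero.1 h2
      · obtain ⟨n, r, hr⟩ := IsLocalization.Away.surj (ι u) r'
        obtain ⟨l, z, hz⟩ := hsurjfin r
        refine ⟨(↑((hU.pow (n + l)).unit⁻¹) : S ⊗[S₀] L₀) * inc z, ?_⟩
        have hune : IsUnit (algebraMap R R' (ι u) ^ (n + l)) := (IsLocalization.Away.algebraMap_isUnit (S := R') (ι u)).pow _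
        refine hune.mul_left_cancel ?_
        have hΨu : Ψ (inc ((1 : S) ⊗ₜ u) ^ (n + l)) = algebraMap R R' (ι u) ^ (n + l) := by
          rw [map_pow, hΨinc, hΦt, map_one, one_mul]
        rw [← hΨu, ← map_mul, ← mul_assoc, IsUnit.mul_val_inv, one_mul, hΨinc, hz, hΨu, map_mul, map_pow,
          ← hr, pow_add]
        ring
    haveI : Algebra.FinitePresentation S R := Algebra.FinitePresentation.of_finiteType.1 inferInstance
    haveI : Algebra.Etale S R' := Algebra.Etale.of_equiv (AlgEquiv.ofBijective Ψ hbij)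
    intro Q hQ hQu
    have := (Algebra.basicOpen_subset_etaleLocus_iff_etale (R := S) (f := ι u)).2 (‹Algebra.Etale S R'›)
    exact this (a := (⟨Q, hQ⟩ : PrimeSpectrum R)) hQu

end GrothLib.GLSlice
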