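import Groth.Agent.Lib.AffQuot.Bridge
import Groth.Agent.Lib.AffQuot.Invariants
import Groth.Prelude.Def_ComodTens
import Mathlib.RingTheory.Localization.FractionRing
import Mathlib.RingTheory.TensorProduct.Maps

/-!
# Characters trivial on the stabiliser of a closed orbit are functions on the orbit
-/

universe u

open TensorProduct HopfRep GLin WithConv

namespace GrothLib.GLSlice

variable {k : Type u} [Field k] {A : Type u} [CommRing A] [HopfAlgebra k A]
  {R : Type u} [CommRing R] [Algebra k R] [Comod k A R] [IsCoactAlg k A R]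

local notation "φ[" x "]" => GLin.orbitHom k A x

/-- two elements agree over the coordinate ring of the orbit when trivial on the stabiliser -/
theorem tmul_one_eq_of_mem_stab (x : R →ₐ[k] k) {χ : A} (hχ : IsGroupLikeElem k χ)
    (h : χ - 1 ∈ GLin.stabIdeal k A x) :
    χ ⊗ₜ[↥(φ[x]).range] (1 : A) = (1 : A) ⊗ₜ[↥(φ[x]).range] χ := by
  let B := (φ[x]).range
  let i₁ : A →ₐ[k] A ⊗[↥B] A := (Algebra.TensorProduct.includeLeft : A →ₐ[↥B] A ⊗[↥B] A).restrictScalars k
  let i₂ : A →ₐ[k] A ⊗[↥B] A := (Algebra.TensorProduct.includeRight : A →ₐ[↥B] A ⊗[↥B] A).restrictScalars k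
  let P : A →ₐ[k] A ⊗[↥B] A :=
    (Algebra.TensorProduct.productMap i₁ (i₂.comp (HopfAlgebra.antipodeAlgHom k A))).comp (Bialgebra.comulAlgHom k A)
  have hP : ∀ f : R, P (φ[x] f) = algebraMap k _ (x f) := by
    intro f
    rw [← GrothLib.AffQuot.counit_orbitHom (A := A) x f]
    change Algebra.TensorProduct.productMap i₁ (i₂.comp (HopfAlgebra.antipodeAlgHom k A))
      (Coalgebra.comul (R := k) (φ[x] f)) = _
    have hS := HopfAlgebra.mul_antipode_lTensor_comul_apply (R := k) (φ[x] f)
    rw [GrothLib.AffQuot.comul_orbitHom] at hS ⊢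
    rw [show algebraMap k (A ⊗[↥B] A) (Coalgebra.counit (R := k) (φ[x] f)) =
      i₂ (algebraMap k A (Coalgebra.counit (R := k) (φ[x] f))) from (i₂.commutes _).symm, ← hS]
    clear hS
    induction Comod.coact (k := k) (A := A) f using TensorProduct.induction_on with
    | zero => simp
    | add a b ha hb => simp only [map_add, ha, hb]
    | tmul p q =>
      simp only [LinearMap.rTensor_tmul, LinearMap.lTensor_tmul, LinearMap.mul'_apply,
        Algebra.TensorProduct.productMap_apply_tmul, AlgHom.comp_apply]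
      change ((φ[x] p) ⊗ₜ[↥B] (1 : A)) * ((1 : A) ⊗ₜ[↥B] HopfAlgebraStruct.antipode k q) =
        (1 : A) ⊗ₜ[↥B] (φ[x] p * HopfAlgebraStruct.antipode k q)
      rw [Algebra.TensorProduct.tmul_mul_tmul, mul_one, one_mul]
      have := TensorProduct.smul_tmul (R := ↥B) (R' := ↥B) (⟨φ[x] p, ⟨p, rfl⟩⟩ : ↥B) (1 : A) (HopfAlgebraStruct.antipode k q)
      simpa [Algebra.smul_def] using this
  have hzero : GLin.stabIdeal k A x ≤ RingHom.ker P := by
    refine Ideal.map_le_iff_le_comap.2 fun f hf => ?_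
    rw [Ideal.mem_comap, RingHom.mem_ker]
    exact (hP f).trans (by rw [show x f = 0 from hf, map_zero])
  have h1 : P χ = 1 := by
    have := RingHom.mem_ker.1 (hzero h)
    rwa [map_sub, map_one, sub_eq_zero] at this
  have h2 : P χ * i₂ χ = χ ⊗ₜ[↥B] (1 : A) := by
    change Algebra.TensorProduct.productMap i₁ (i₂.comp (HopfAlgebra.antipodeAlgHom k A))
      (Coalgebra.comul (R := k) χ) * _ = _
    rw [hχ.comul_eq_tmul_self, Algebra.TensorProduct.productMap_apply_tmul, mul_assoc, AlgHom.comp_apply, ← map_mul]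
    have : HopfAlgebra.antipodeAlgHom k A χ * χ = 1 := by
      have hm := HopfAlgebra.mul_antipode_rTensor_comul_apply (R := k) χ
      rw [hχ.comul_eq_tmul_self, hχ.counit_eq_one, map_one, LinearMap.rTensor_tmul, LinearMap.mul'_apply] at hm
      exact hm
    rw [this, map_one, mul_one]
    rfl
  rw [h1, one_mul] at h2
  exact h2.symm

omit [HopfAlgebra k A] in
/-- descent for a domain over a subring -/
theorem exists_mul_mem_of_tmul_eq' [IsDomain A] (B : Type u) [CommRing B] [IsDomain B] [Algebra B A]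
    (hB : Function.Injective (algebraMap B A)) {a : A}
    (h : a ⊗ₜ[B] (1 : A) = (1 : A) ⊗ₜ[B] a) : ∃ b : B, b ≠ 0 ∧ a * algebraMap B A b ∈ Set.range (algebraMap B A) := by
  let L := FractionRing A
  have hinj : Function.Injective (algebraMap B L) := by
    rw [IsScalarTower.algebraMap_eq B A L]
    exact (IsFractionRing.injective A L).comp hB
  haveI : FaithfulSMul B L := (faithfulSMul_iff_algebraMap_injective _ _).2 hinj
  let K := FractionRing B
  letI : Algebra K L := FractionRing.liftAlgebra B L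
  haveI : IsScalarTower B K L := FractionRing.isScalarTower_liftAlgebra B L
  obtain ⟨f, hf⟩ : ∃ f : L →ₗ[K] K, f 1 = 1 := by
    obtain ⟨g, hg⟩ := LinearMap.exists_leftInverse_of_injective (LinearMap.toSpanSingleton K L 1)
      (LinearMap.ker_eq_bot.2 (smul_left_injective K one_ne_zero))
    refine ⟨g, ?_⟩
    have := LinearMap.congr_fun hg 1
    rwa [LinearMap.comp_apply, LinearMap.toSpanSingleton_apply, one_smul, LinearMap.id_apply] at this
  let G : A ⊗[B] A →ₗ[B] L := TensorProduct.lift ((LinearMap.mul B L).compl₁₂ (IsScalarTower.toAlgHom B A L).toLinearMap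
    (((Algebra.linearMap K L) ∘ₗ f).restrictScalars B ∘ₗ (IsScalarTower.toAlgHom B A L).toLinearMap))
  have h3 : algebraMap A L a = algebraMap K L (f (algebraMap A L a)) := by
    have := congrArg G h
    simp only [G, TensorProduct.lift.tmul, LinearMap.compl₁₂_apply, LinearMap.mul_apply', LinearMap.comp_apply,
      LinearMap.restrictScalars_apply, AlgHom.toLinearMap_apply, IsScalarTower.toAlgHom_apply, Algebra.linearMap_apply] at this
    rwa [map_one, hf, map_one, mul_one, one_mul] at this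
  obtain ⟨b, c, hc, hbc⟩ := IsFractionRing.div_surjective (A := B) (f (algebraMap A L a))
  have hc0 : c ≠ 0 := nonZeroDivisors.ne_zero hc
  refine ⟨c, hc0, b, ?_⟩
  refine IsFractionRing.injective A L ?_
  have hcL : algebraMap A L (algebraMap B A c) = algebraMap K L (algebraMap B K c) :=
    (IsScalarTower.algebraMap_apply B A L c).symm.trans (IsScalarTower.algebraMap_apply B K L c)
  have hbL : algebraMap A L (algebraMap B A b) = algebraMap K L (algebraMap B K b) :=
    (IsScalarTower.algebraMap_apply B A L b).symm.trans (IsScalarTower.algebraMap_apply B K L b)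
  rw [map_mul, hcL, hbL, h3, ← map_mul, ← hbc,
    div_mul_cancel₀ _ (fun e => hc0 (IsFractionRing.injective B K (e.trans (map_zero _).symm)))]

/-- descent for a domain over a subalgebra -/
theorem exists_mul_mem_of_tmul_eq [IsDomain A] (B : Subalgebra k A) {a : A}
    (h : a ⊗ₜ[↥B] (1 : A) = (1 : A) ⊗ₜ[↥B] a) : ∃ b ∈ B, b ≠ 0 ∧ a * b ∈ B := by
  obtain ⟨b, hb, c, hc⟩ := exists_mul_mem_of_tmul_eq' ↥B Subtype.val_injective h
  exact ⟨b, b.2, fun h0 => hb (Subtype.ext h0), hc ▸ c.2⟩

variable [IsAlgClosed k] [IsDomain A] [Algebra.FiniteType k A] [Algebra.FiniteType k R]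

/-- a character trivial on the stabiliser of a closed orbit is a function on the orbit -/
theorem mem_range_of_mem_stab (x : R →ₐ[k] k) (hx : GLin.IsClosedOrbit k A x) {χ : A} (hχ : IsGroupLikeElem k χ)
    (h : χ - 1 ∈ GLin.stabIdeal k A x) : χ ∈ (φ[x]).range := by
  obtain ⟨b, ⟨f₀, rfl⟩, hb0, hbχ⟩ := exists_mul_mem_of_tmul_eq _ (tmul_one_eq_of_mem_stab x hχ h)
  let J : Ideal R :=
    { carrier := {f | φ[x] f * χ ∈ (φ[x]).range}
      add_mem' := fun {a c} ha hc => by
        simp only [Set.mem_ofPred_eq] at ha hc ⊢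
        rw [map_add, add_mul]; exact add_mem ha hc
      zero_mem' := by simp only [Set.mem_ofPred_eq]; rw [map_zero, zero_mul]; exact zero_mem _
      smul_mem' := fun c a ha => by
        simp only [Set.mem_ofPred_eq, smul_eq_mul] at ha ⊢
        rw [map_mul, mul_assoc]; exact mul_mem ⟨c, rfl⟩ ha }
  have hJmem : ∀ f : R, f ∈ J ↔ φ[x] f * χ ∈ (φ[x]).range := fun f => Iff.rfl
  by_cases hJ : J = ⊤
  · have : (1 : R) ∈ J := hJ ▸ Submodule.mem_top
    have h' : φ[x] (1 : R) * χ ∈ (φ[x]).range := this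
    rwa [map_one, one_mul] at h'
  exfalso
  obtain ⟨z, hz⟩ := GrothLib.AffQuot.exists_point (k := k) hJ
  obtain ⟨g, hg⟩ := (GrothLib.AffQuot.isClosedOrbit_iff x).1 hx z fun f hf => hz f ((hJmem f).2 (by
    rw [hf, zero_mul]; exact zero_mem _))
  obtain ⟨g₀, hg₀⟩ : ∃ g₀ : A →ₐ[k] k, g₀ (φ[x] f₀) ≠ 0 := by
    by_contra! hno
    exact hb0 (GrothLib.AffQuot.isNilpotent_of_forall (k := k) hno).eq_zero
  let hh : A →ₐ[k] k := ((toConv g)⁻¹ * toConv g₀).ofConv
  let T : A →ₐ[k] A := ((Algebra.TensorProduct.rid k k A).toAlgHom.comp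
    (Algebra.TensorProduct.map (AlgHom.id k A) hh)).comp (Bialgebra.comulAlgHom k A)
  have hT : ∀ f : R, T (φ[x] f) = φ[x] (Comod.act k A R hh f) := by
    intro f
    change (Algebra.TensorProduct.rid k k A) (Algebra.TensorProduct.map (AlgHom.id k A) hh (Coalgebra.comul (R := k) (φ[x] f))) = _
    rw [GrothLib.AffQuot.comul_orbitHom, Comod.act, LinearMap.comp_apply, LinearMap.comp_apply]
    induction Comod.coact (k := k) (A := A) f using TensorProduct.induction_on with
    | zero => simp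
    | tmul p q => simp
    | add a c ha hc => simp only [map_add, ha, hc]
  have hTχ : T χ = hh χ • χ := by
    change (Algebra.TensorProduct.rid k k A) (Algebra.TensorProduct.map (AlgHom.id k A) hh (Coalgebra.comul (R := k) χ)) = _
    rw [hχ.comul_eq_tmul_self]
    simp
  have hne : hh χ ≠ 0 := (hχ.isUnit.map hh).ne_zero
  have hmem : Comod.act k A R hh f₀ ∈ J := by
    obtain ⟨f₁, hf₁⟩ := (AlgHom.mem_range φ[x]).1 hbχ
    refine (hJmem _).2 ⟨(hh χ)⁻¹ • Comod.act k A R hh f₁, ?_⟩
    have := congrArg T (show φ[x] f₁ = χ * φ[x] f₀ from hf₁)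
    rw [hT, map_mul, hTχ, mul_comm] at this
    change φ[x] _ = _
    rw [map_smul, this, hT, mul_smul_comm, inv_smul_smul₀ hne]
  have h0 := hz _ hmem
  rw [← hg, AlgHom.comp_apply] at h0
  refine hg₀ ?_
  have e : g₀.comp φ[x] = hh.comp φ[g.comp φ[x]] := by
    rw [GrothLib.AffQuot.comp_orbitHom_comp]
    simp only [hh, toConv_ofConv, mul_inv_cancel_left, ofConv_toConv]
  have e2 := AlgHom.congr_fun e f₀
  simp only [AlgHom.comp_apply, GrothLib.AffQuot.apply_orbitHom] at e2 h0 ⊢
  exact e2.trans h0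

omit [IsAlgClosed k] [IsDomain A] [Algebra.FiniteType k A] [Algebra.FiniteType k R] in
/-- equivariant lifting of an eigenvector -/
theorem exists_eigen_lift (hG : IsLinearlyReductive k A) {χ ψ : A} (hψ : IsGroupLikeElem k ψ) (hinv : χ * ψ = 1)
    {V W : Type u} [AddCommGroup V] [Module k V] [cV : Comod k A V] [AddCommGroup W] [Module k W] [cW : Comod k A W]
    {g : V →ₗ[k] W} (hg : Hoch.IsComodHom A g) (v₀ : V)
    (hv : cW.coact (g v₀) = g v₀ ⊗ₜ[k] χ) :
    ∃ v : V, cV.coact v = v ⊗ₜ[k] χ ∧ g v = g v₀ := by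
  have hg' : @Hoch.IsComodHom k _ A _ _ _ V _ _ (ComodTens.Comod.twist cV ψ hψ) W _ _ (ComodTens.Comod.twist cW ψ hψ) g := by
    refine LinearMap.ext fun f => ?_
    simp only [LinearMap.comp_apply]
    rw [ComodTens.twist_coact, ComodTens.twist_coact, GrothLib.Comodule.IsComodHom.apply hg]
    generalize cV.coact f = z
    induction z using TensorProduct.induction_on with
    | zero => simp
    | tmul p q => simp
    | add a b ha hb => simp only [map_add, ha, hb]
  have hfix : (ComodTens.Comod.twist cW ψ hψ).coact (g v₀) = g v₀ ⊗ₜ[k] (1 : A) := by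
    rw [ComodTens.twist_coact, hv, LinearMap.lTensor_tmul, LinearMap.mulRight_apply, hinv]
  refine ⟨@GrothLib.Comodule.Reynolds.reynolds k _ A _ _ V _ _ (ComodTens.Comod.twist cV ψ hψ) hG v₀, ?_, ?_⟩
  · have h1 : (ComodTens.Comod.twist cV ψ hψ).coact _ = _ ⊗ₜ[k] (1 : A) :=
      @GrothLib.Comodule.Reynolds.reynolds_mem k _ A _ _ V _ _ (ComodTens.Comod.twist cV ψ hψ) hG v₀
    have := congrArg ((LinearMap.mulRight k χ).lTensor V) h1
    rw [ComodTens.twist_coact, ← LinearMap.lTensor_comp_apply, LinearMap.lTensor_tmul, LinearMap.mulRight_apply, one_mul] at this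
    have hid : LinearMap.mulRight k χ ∘ₗ LinearMap.mulRight k ψ = LinearMap.id := LinearMap.ext fun a => by
      simp [mul_assoc, mul_comm ψ χ, hinv]
    rwa [hid, LinearMap.lTensor_id, LinearMap.id_apply] at this
  · rw [← @GrothLib.Comodule.Reynolds.reynolds_comm k _ A _ _ V _ _ (ComodTens.Comod.twist cV ψ hψ) hG W _ _
      (ComodTens.Comod.twist cW ψ hψ) _ hg' v₀]
    exact @GrothLib.Comodule.Reynolds.reynolds_fixed k _ A _ _ W _ _ (ComodTens.Comod.twist cW ψ hψ) hG _ hfix

omit [IsAlgClosed k] [IsDomain A] [Algebra.FiniteType k A] [Algebra.FiniteType k R] in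
/-- semi-invariant lift of a character on an orbit -/
theorem exists_semiinvariant (hG : IsLinearlyReductive k A) (x : R →ₐ[k] k) {χ ψ : A} (hχ : IsGroupLikeElem k χ)
    (hψ : IsGroupLikeElem k ψ) (hinv : χ * ψ = 1) (h : χ ∈ (φ[x]).range) :
    ∃ s : R, Comod.coact (k := k) (A := A) s = s ⊗ₜ[k] χ ∧ φ[x] s = χ := by
  obtain ⟨s₀, hs₀⟩ := h
  have hs : (φ[x]).toLinearMap s₀ = χ := hs₀
  obtain ⟨s, h1, h2⟩ := exists_eigen_lift hG hψ hinv (GrothLib.AffQuot.isComodHom_orbitHom (A := A) x) s₀ (by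
    rw [hs]; exact hχ.comul_eq_tmul_self)
  exact ⟨s, h1, h2.trans hs⟩

end GrothLib.GLSlice
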