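import Groth.Agent.Lib.GLSlice.Translate
import Groth.Agent.Lib.Dim.Ring
import Mathlib.RingTheory.KrullDimension.NonZeroDivisors
import Mathlib.RingTheory.Ideal.Quotient.Operations

/-!
# Finite equivariant maps and closed orbits, for arbitrary affine groups
-/

universe u

open TensorProduct HopfRep GLin

namespace GrothLib.GLSlice

variable {k : Type u} [Field k] [IsAlgClosed k] {A : Type u} [CommRing A] [HopfAlgebra k A]
  [Algebra.FiniteType k A]
  {S : Type u} [CommRing S] [Algebra k S] [Comod k A S] [IsCoactAlg k A S]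
  {R : Type u} [CommRing R] [Algebra k R] [Comod k A R] [IsCoactAlg k A R] [Algebra.FiniteType k R]

local notation "φ[" x "]" => GLin.orbitHom k A x

/-- the boundary of an orbit has smaller dimension -/
theorem dim_succ_le_of_cl {x z : R →ₐ[k] k} (h : GrothLib.AffQuot.Cl k A x z)
    (h' : ¬ GrothLib.AffQuot.Orb k A x z) :
    ringKrullDim (R ⧸ RingHom.ker φ[z]) + 1 ≤ ringKrullDim (R ⧸ RingHom.ker φ[x]) := by
  rw [ringKrullDim_quotient, ringKrullDim_quotient]
  have hle : RingHom.ker φ[x] ≤ RingHom.ker φ[z] := fun a ha => h.ker_le ha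
  have key : ∀ P : Ideal R, P.IsPrime → RingHom.ker φ[z] ≤ P →
      ∃ Q : Ideal R, Q.IsPrime ∧ RingHom.ker φ[x] ≤ Q ∧ Q < P := by
    intro P hP hzP
    obtain ⟨Q, hQ, hQP⟩ := Ideal.exists_minimalPrimes_le (J := P) (hle.trans hzP)
    refine ⟨Q, hQ.1.1, hQ.1.2, lt_of_le_of_ne hQP fun he => h' ?_⟩
    subst he
    haveI := hQ.1.1
    set π := Ideal.Quotient.mk (RingHom.ker φ[x])
    have hp : Q.map π ∈ minimalPrimes (R ⧸ RingHom.ker φ[x]) := by
      have hc : (Q.map π).comap π = Q := by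
        rw [Ideal.comap_map_of_surjective _ Ideal.Quotient.mk_surjective, ← RingHom.ker_eq_comap_bot,
          Ideal.mk_ker, sup_eq_left.mpr hQ.1.2]
      refine ⟨⟨Ideal.isPrime_map_quotientMk_of_isPrime hQ.1.2, bot_le⟩, fun p hp hple => ?_⟩
      haveI := hp.1
      have h1 : Q ≤ p.comap π := hQ.2 ⟨Ideal.IsPrime.comap π, fun a ha => by
        rw [Ideal.mem_comap, Ideal.Quotient.eq_zero_iff_mem.2 ha]; exact p.zero_mem⟩
        ((Ideal.comap_mono hple).trans hc.le)
      exact Ideal.map_le_iff_le_comap.2 h1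
    obtain ⟨b, hb, hbo⟩ := GrothLib.AffQuot.exists_open_orbit x hp
    have hbQ : b ∉ Q := fun hbQ => hb (Ideal.mem_map_of_mem π hbQ)
    obtain ⟨w, hw, hwb⟩ := GrothLib.AffQuot.exists_point_ne_zero (k := k) hbQ
    have hzw : GrothLib.AffQuot.Cl k A z w := fun a ha => hw a (hzP (RingHom.mem_ker.2 ha))
    obtain ho := hbo w (h.trans hzw) hwb
    exact GrothLib.AffQuot.orb_of_cl_cl h (hzw.trans ho.symm.cl)
  haveI : Nonempty (PrimeSpectrum.zeroLocus (R := R) (RingHom.ker φ[z] : Set R)) := by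
    exact ⟨⟨⟨RingHom.ker z, RingHom.ker_isPrime z⟩, fun a ha => (GrothLib.AffQuot.cl_refl z) a (RingHom.mem_ker.1 ha)⟩⟩
  haveI : Nonempty (PrimeSpectrum.zeroLocus (R := R) (RingHom.ker φ[x] : Set R)) := by
    exact ⟨⟨⟨RingHom.ker z, RingHom.ker_isPrime z⟩, fun a ha => h a (RingHom.mem_ker.1 ha)⟩⟩
  rw [Order.krullDim_eq_iSup_length, Order.krullDim_eq_iSup_length, ← WithBot.coe_one, ← WithBot.coe_add, WithBot.coe_le_coe,
    ENat.iSup_add]
  refine iSup_le fun l => ?_
  obtain ⟨Q, hQ, hxQ, hQlt⟩ := key _ l.head.1.isPrime l.head.2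
  let emb : PrimeSpectrum.zeroLocus (R := R) (RingHom.ker φ[z] : Set R) →
      PrimeSpectrum.zeroLocus (R := R) (RingHom.ker φ[x] : Set R) := fun P => ⟨P.1, fun a ha => P.2 (hle ha)⟩
  let l' : LTSeries (PrimeSpectrum.zeroLocus (R := R) (RingHom.ker φ[x] : Set R)) :=
    RelSeries.cons (l.map emb fun a b hab => hab) ⟨⟨Q, hQ⟩, hxQ⟩ (by rw [Set.mem_setOf_eq, LTSeries.head_map]; exact hQlt)
  refine le_iSup_of_le l' ?_
  simp [l']

/-- a nonzero algebra of finite type has finite dimension -/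
theorem exists_dim_eq_nat (K : Type u) [Field K] (R : Type u) [CommRing R] [Algebra K R] [Algebra.FiniteType K R]
    [Nontrivial R] : ∃ n : ℕ, ringKrullDim R = n := by
  obtain ⟨n, g, hinj, hfin⟩ := exists_finite_inj_algHom_of_fg K R
  algebraize [g.toRingHom]
  haveI : Module.Finite (MvPolynomial (Fin n) K) R := hfin
  refine ⟨n, ?_⟩
  rw [GrothLib.Dim.ringKrullDim_eq_of_isIntegral (R := MvPolynomial (Fin n) K) (S := R) hinj,
    MvPolynomial.ringKrullDim_of_isNoetherianRing, ringKrullDim_eq_zero_of_field]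
  simp

variable [Algebra.FiniteType k S] [Algebra S R] [IsScalarTower k S R] [Algebra.IsIntegral S R]

omit [Algebra.FiniteType k S] in
/-- along a finite equivariant map an orbit closure meets the fibre over the orbit only in the orbit -/
theorem orb_of_cl_of_orb_comp (hf : IsEquiv (A := A) (IsScalarTower.toAlgHom k S R)) {x z : R →ₐ[k] k}
    (h : GrothLib.AffQuot.Cl k A x z)
    (ho : GrothLib.AffQuot.Orb k A (x.comp (IsScalarTower.toAlgHom k S R)) (z.comp (IsScalarTower.toAlgHom k S R))) :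
    GrothLib.AffQuot.Orb k A x z := by
  by_contra h'
  set f := IsScalarTower.toAlgHom k S R
  have hcom : ∀ w : R →ₐ[k] k, RingHom.ker φ[w.comp f] = (RingHom.ker φ[w]).comap (algebraMap S R) := fun w => by
    rw [hf.orbitHom_comp]; rfl
  have hdim : ∀ w : R →ₐ[k] k, ringKrullDim (R ⧸ RingHom.ker φ[w]) = ringKrullDim (S ⧸ RingHom.ker φ[w.comp f]) := fun w => by
    rw [hcom]
    exact GrothLib.Dim.ringKrullDim_eq_of_isIntegral Ideal.algebraMap_quotient_injective
  have heq : RingHom.ker φ[x.comp f] = RingHom.ker φ[z.comp f] :=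
    le_antisymm (fun a ha => ho.cl.ker_le ha) (fun a ha => ho.symm.cl.ker_le ha)
  have hlt := dim_succ_le_of_cl h h'
  rw [hdim, hdim, heq, ← hdim] at hlt
  haveI : Nontrivial (R ⧸ RingHom.ker φ[z]) :=
    ((Ideal.Quotient.liftₐ (RingHom.ker φ[z]) z fun a ha => GrothLib.AffQuot.cl_refl z a ha) :
      R ⧸ RingHom.ker φ[z] →ₐ[k] k).toRingHom.domain_nontrivial
  obtain ⟨n, hn⟩ := exists_dim_eq_nat k (R ⧸ RingHom.ker φ[z])
  rw [hn] at hlt
  norm_cast at hlt
  omega

/-- an orbit is closed iff its image under a finite equivariant map is -/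
theorem isClosedOrbit_iff_comp (hf : IsEquiv (A := A) (IsScalarTower.toAlgHom k S R)) (x : R →ₐ[k] k) :
    GLin.IsClosedOrbit k A x ↔ GLin.IsClosedOrbit k A (x.comp (IsScalarTower.toAlgHom k S R)) := by
  refine ⟨isClosedOrbit_comp hf, fun hy => (GrothLib.AffQuot.isClosedOrbit_iff x).2 fun z hz => ?_⟩
  refine orb_of_cl_of_orb_comp hf hz ((GrothLib.AffQuot.isClosedOrbit_iff _).1 hy _ fun a ha => hz _ ?_)
  rw [hf.orbitHom_comp] at ha
  exact ha

omit [Algebra.FiniteType k S] in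
/-- a point in the fibre of the quotient over a closed orbit with the same image is the point -/
theorem eq_of_finite' (hG : IsLinearlyReductive k A)
    (hf : IsEquiv (A := A) (IsScalarTower.toAlgHom k S R)) {x : R →ₐ[k] k} (hx : GLin.IsClosedOrbit k A x)
    (hinj : ∀ g : A →ₐ[k] k, GLin.actPt k g (x.comp (IsScalarTower.toAlgHom k S R)) = x.comp (IsScalarTower.toAlgHom k S R) →
      GLin.actPt k g x = x)
    {z : R →ₐ[k] k} (hinv : ∀ a ∈ fixedPts k A R, z a = x a)
    (hy : z.comp (IsScalarTower.toAlgHom k S R) = x.comp (IsScalarTower.toAlgHom k S R)) : z = x := by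
  have hcl : GrothLib.AffQuot.Cl k A z x :=
    GrothLib.AffQuot.cl_of_closed hG ((GrothLib.AffQuot.isClosedOrbit_iff x).1 hx) hinv
  obtain ⟨g, hg⟩ := (orb_of_cl_of_orb_comp hf hcl (hy ▸ GrothLib.AffQuot.orb_refl _)).symm
  have hfix : GLin.actPt k g x = x := hinj g (by rw [hf.actPt_comp, GLin.actPt, hg, hy])
  rw [← hg]; exact hfix

end GrothLib.GLSlice
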