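import Groth.Agent.Lib.Flatness.Criterion
import Groth.Agent.Lib.LocProp.AtPrime

/-!
Local algebras that agree with the base modulo all powers of an ideal.
-/

universe u

open TensorProduct Function

namespace GrothLib.GLSlice

/-- an algebra agreeing with the base modulo all powers of `p` is flat -/
theorem flat_of_quotient_pow_bijective {R L : Type u} [CommRing R] [CommRing L] [Algebra R L]
    [IsNoetherianRing R] [IsNoetherianRing L] (p : Ideal R)
    (hp : p.map (algebraMap R L) ≤ Ideal.jacobson ⊥)
    (hsurj : ∀ (n : ℕ) (l : L), ∃ r : R, l - algebraMap R L r ∈ (p ^ n).map (algebraMap R L))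
    (hinj : ∀ (n : ℕ) (r : R), algebraMap R L r ∈ (p ^ n).map (algebraMap R L) → r ∈ p ^ n) :
    Module.Flat R L := by
  refine GrothLib.Flatness.flat_of_forall_pow (S := L) (M := L) p hp fun n P Q _ _ _ _ f hP hQ hf => ?_
  choose e he using hsurj n
  have hwd : ∀ (l : L) (r : R), l - algebraMap R L r ∈ (p ^ n).map (algebraMap R L) → e l - r ∈ p ^ n := fun l r h =>
    hinj n _ (by
      have := Ideal.sub_mem _ h (he l)
      rwa [sub_sub_sub_cancel_left, ← map_sub] at this)
  have hsmul : ∀ {M : Type u} [AddCommGroup M] [Module R M], Module.IsTorsionBySet R M (p ^ n : Ideal R) →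
      ∀ (r s : R), r - s ∈ p ^ n → ∀ m : M, r • m = s • m := fun {M} _ _ hM r s h m => by
    rw [← sub_eq_zero, ← sub_smul]; exact @hM m ⟨_, h⟩
  have hinv : ∀ (M : Type u) [AddCommGroup M] [Module R M] (hM : Module.IsTorsionBySet R M (p ^ n : Ideal R)),
      Bijective fun m : M => (1 : L) ⊗ₜ[R] m := by
    intro M _ _ hM
    let b : L →ₗ[R] M →ₗ[R] M := LinearMap.mk₂ R (fun l m => e l • m)
      (fun l l' m => by
        rw [← add_smul]
        refine hsmul hM _ _ (hwd _ _ ?_) m
        rw [map_add, add_sub_add_comm]; exact add_mem (he l) (he l'))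
      (fun c l m => by
        rw [smul_smul]
        refine hsmul hM _ _ (hwd _ _ ?_) m
        rw [map_mul, Algebra.smul_def, ← mul_sub]; exact Ideal.mul_mem_left _ _ (he l))
      (fun l m m' => smul_add _ _ _) (fun c l m => smul_comm _ _ _)
    refine ⟨LeftInverse.injective (g := TensorProduct.lift b) fun m => ?_, fun t => ?_⟩
    · change e 1 • m = m
      conv_rhs => rw [← one_smul R m]
      exact hsmul hM _ _ (hwd 1 1 (by simp)) m
    · induction t using TensorProduct.induction_on with
      | zero => exact ⟨0, tmul_zero _ _⟩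
      | add t t' ht ht' =>
        obtain ⟨m, rfl⟩ := ht; obtain ⟨m', rfl⟩ := ht'
        exact ⟨m + m', tmul_add _ _ _⟩
      | tmul l m =>
        refine ⟨e l • m, ?_⟩
        have h0 : ∀ d ∈ (p ^ n).map (algebraMap R L), d ⊗ₜ[R] m = 0 := by
          have : ∀ d ∈ (p ^ n).map (algebraMap R L), ∀ l' : L, (l' * d) ⊗ₜ[R] m = 0 := fun d hd => by
            induction hd using Submodule.span_induction with
            | mem d hd =>
              obtain ⟨r, hr, rfl⟩ := hd
              intro l'
              rw [mul_comm, ← Algebra.smul_def, smul_tmul, show r • m = 0 from @hM m ⟨r, hr⟩, tmul_zero]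
            | zero => simp
            | add d d' _ _ hd hd' => intro l'; rw [mul_add, add_tmul, hd, hd', add_zero]
            | smul c d _ hd => intro l'; rw [smul_eq_mul, ← mul_assoc]; exact hd _
          exact fun d hd => by simpa using this d hd 1
        have := h0 _ (he l)
        rw [sub_tmul, sub_eq_zero, Algebra.algebraMap_eq_smul_one, smul_tmul] at this
        exact this.symm
  intro a b hab
  obtain ⟨a', rfl⟩ := (hinv P hP).2 a
  obtain ⟨b', rfl⟩ := (hinv P hP).2 b
  simp only [LinearMap.lTensor_tmul] at hab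
  rw [hf ((hinv Q hQ).1 hab)]

/-- étale at a rational prime from the truncations -/
theorem isEtaleAt_of_levels {R S : Type u} [CommRing R] [CommRing S] [Algebra R S] [IsNoetherianRing R]
    [Algebra.FiniteType R S] (p : Ideal R) (q : Ideal S) [p.IsMaximal] [q.IsMaximal] [q.LiesOver p]
    (hsurj : ∀ (n : ℕ) (a : S), ∃ r : R, algebraMap S (Localization.AtPrime q) (a - algebraMap R S r) ∈ (p ^ n).map (algebraMap R (Localization.AtPrime q)))
    (hinj : ∀ (n : ℕ) (r : R), algebraMap R (Localization.AtPrime q) r ∈ (p ^ n).map (algebraMap R (Localization.AtPrime q)) → r ∈ p ^ n) :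
    Algebra.IsEtaleAt R q := by
  haveI : Algebra.FinitePresentation R S := Algebra.FinitePresentation.of_finiteType.1 ‹_›
  haveI : IsNoetherianRing S := Algebra.FiniteType.isNoetherianRing R S
  let L := Localization.AtPrime q
  haveI : IsNoetherianRing L := IsLocalization.isNoetherianRing q.primeCompl L inferInstance
  let := Localization.AtPrime.algebraOfLiesOver p q
  have hpq : ∀ r ∈ p, algebraMap R S r ∈ q := fun r hr => (q.over_def p ▸ hr : r ∈ q.under R)
  have hpmax : p.map (algebraMap R L) ≤ IsLocalRing.maximalIdeal L := Ideal.map_le_iff_le_comap.2 fun r hr => by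
    rw [Ideal.mem_comap, IsScalarTower.algebraMap_apply R S L]
    exact (IsLocalization.AtPrime.to_map_mem_maximal_iff L q _).2 (hpq r hr)
  have hflat : Module.Flat R L := by
    refine flat_of_quotient_pow_bijective p (hpmax.trans (IsLocalRing.maximalIdeal_le_jacobson _)) (fun n l => ?_) hinj
    obtain ⟨a, u, rfl⟩ := IsLocalization.exists_mk'_eq q.primeCompl l
    obtain ⟨sa, hsa⟩ := hsurj n a
    obtain ⟨su, hsu⟩ := hsurj n u
    rw [map_sub, ← IsScalarTower.algebraMap_apply] at hsa hsu
    by_cases hn : n = 0
    · subst hn; exact ⟨0, by simp [Ideal.map_top]⟩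
    have hsup : su ∉ p := fun hmem => by
      have h1 : algebraMap R L su ∈ IsLocalRing.maximalIdeal L := hpmax (Ideal.mem_map_of_mem _ hmem)
      have h2 := (Ideal.map_mono (Ideal.pow_le_self hn)).trans hpmax hsu
      have h3 := Ideal.add_mem _ h2 h1
      rw [sub_add_cancel] at h3
      exact u.2 ((IsLocalization.AtPrime.to_map_mem_maximal_iff L q _).1 h3)
    have hcop : Ideal.span {su} ⊔ p ^ n = ⊤ := by
      refine Ideal.sup_pow_eq_top (‹p.IsMaximal›.out.2 _ (lt_of_le_of_ne le_sup_right fun h => hsup ?_))
      exact h ▸ Submodule.mem_sup_left (Ideal.mem_span_singleton_self su)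
    obtain ⟨c, hc, d, hd, hcd⟩ := Submodule.mem_sup.1 (hcop ▸ Submodule.mem_top : (1 : R) ∈ Ideal.span {su} ⊔ p ^ n)
    obtain ⟨t, rfl⟩ := Ideal.mem_span_singleton'.1 hc
    refine ⟨sa * t, ?_⟩
    refine (Ideal.unit_mul_mem_iff_mem _ (IsLocalization.map_units L u)).1 ?_
    rw [mul_sub, mul_comm _ (IsLocalization.mk' L a u), IsLocalization.mk'_spec, map_mul]
    have hd' := Ideal.mem_map_of_mem (algebraMap R L) hd
    have h1 : algebraMap R L t * algebraMap R L su + algebraMap R L d = 1 := by rw [← map_mul, ← map_add, hcd, map_one]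
    rw [show algebraMap S L a - algebraMap S L u * (algebraMap R L sa * algebraMap R L t) =
      (algebraMap S L a - algebraMap R L sa) + algebraMap R L sa * algebraMap R L d
        - algebraMap R L sa * algebraMap R L t * (algebraMap S L u - algebraMap R L su) from by
          linear_combination (algebraMap R L sa) * (-h1)]
    exact Ideal.sub_mem _ (Ideal.add_mem _ hsa (Ideal.mul_mem_left _ _ hd')) (Ideal.mul_mem_left _ _ hsu)
  haveI : Module.Flat (Localization.AtPrime p) L :=
    (Module.flat_iff_of_isLocalization (Localization.AtPrime p) p.primeCompl L).mpr hflat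
  have hres : Function.Surjective (algebraMap p.ResidueField q.ResidueField) := by
    intro z
    obtain ⟨a', rfl⟩ := (Ideal.bijective_algebraMap_quotient_residueField q).2 z
    obtain ⟨a, rfl⟩ := Ideal.Quotient.mk_surjective a'
    obtain ⟨r, hr⟩ := hsurj 1 a
    rw [pow_one] at hr
    refine ⟨algebraMap R p.ResidueField r, ?_⟩
    rw [← IsScalarTower.algebraMap_apply, ← Ideal.Quotient.algebraMap_eq, ← IsScalarTower.algebraMap_apply,
      IsScalarTower.algebraMap_apply R S q.ResidueField, ← sub_eq_zero, ← map_sub,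
      Ideal.algebraMap_residueField_eq_zero, ← neg_sub]
    exact q.neg_mem ((IsLocalization.AtPrime.to_map_mem_maximal_iff L q _).1 (hpmax hr))
  haveI : Algebra.IsUnramifiedAt R q := by
    rw [Algebra.isUnramifiedAt_iff_map_eq R p q]
    refine ⟨⟨fun z => ?_⟩, le_antisymm hpmax ?_⟩
    · obtain ⟨c, rfl⟩ := hres z
      exact isSeparable_algebraMap c
    · rw [← Localization.AtPrime.map_eq_maximalIdeal]
      refine Ideal.map_le_iff_le_comap.2 fun a ha => ?_
      obtain ⟨r, hr⟩ := hsurj 1 a
      rw [pow_one, map_sub, ← IsScalarTower.algebraMap_apply] at hr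
      have h1 := Ideal.sub_mem _ ((IsLocalization.AtPrime.to_map_mem_maximal_iff L q _).2 ha) (hpmax hr)
      rw [sub_sub_cancel, IsScalarTower.algebraMap_apply R S L, IsLocalization.AtPrime.to_map_mem_maximal_iff L q] at h1
      have h2 : r ∈ p := by rw [q.over_def p]; exact h1
      have h3 := Ideal.add_mem _ hr (Ideal.mem_map_of_mem (algebraMap R L) h2)
      rw [sub_add_cancel] at h3
      exact h3
  exact GrothLib.LocProp.isEtaleAt_of_isUnramifiedAt_of_flat p q

end GrothLib.GLSlice
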