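import Groth.Agent.Lib.GLSlice.Equivariant
import Groth.Agent.Lib.GLSlice.FiniteOrbit
import Groth.Agent.Lib.GLSlice.LevelFlat
import Groth.Agent.Lib.AffQuot.FinGen
import Mathlib.RingTheory.Jacobson.Ring
import Mathlib.RingTheory.Flat.FaithfullyFlat.Algebra
import Mathlib.RingTheory.Finiteness.Nakayama

/-!
# Étale descent to the quotient along a finite equivariant map injective on a closed orbit
-/

universe u

open TensorProduct HopfRep GLin GrothLib.Comodule

namespace GrothLib.GLSlice

variable {k : Type u} [Field k] [IsAlgClosed k] {A : Type u} [CommRing A] [IsReduced A] [HopfAlgebra k A]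
  [Algebra.FiniteType k A]

/-- a finite type structure on an abstract ring of invariants -/
theorem finiteType_of_range_eq (hG : IsLinearlyReductive k A) {R : Type u} [CommRing R] [Algebra k R]
    [Algebra.FiniteType k R] [Comod k A R] [IsCoactAlg k A R] {R₀ : Type u} [CommRing R₀] [Algebra k R₀]
    (ι : R₀ →ₐ[k] R) (hι : Function.Injective ι) (hr : ι.range = GLin.invariants k A R) :
    Algebra.FiniteType k R₀ := by
  haveI : Algebra.FiniteType k ι.range :=
    (Subalgebra.fg_iff_finiteType _).1 (hr ▸ GrothLib.AffQuot.fg_invariants (R := R) hG)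
  exact Algebra.FiniteType.equiv ‹_› (AlgEquiv.ofInjective ι hι).symm

set_option maxHeartbeats 1000000 in
/-- the induced map of quotients is étale at the point and the fibre is generated by the base -/
theorem isEtaleAt_invariants_and_surjective (hG : IsLinearlyReductive k A)
    (S : Type u) [CommRing S] [IsReduced S] [Algebra k S] [Algebra.FiniteType k S] [Comod k A S] [IsCoactAlg k A S]
    (R : Type u) [CommRing R] [IsReduced R] [Algebra k R] [Algebra.FiniteType k R] [Comod k A R] [IsCoactAlg k A R]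
    [Algebra S R] [IsScalarTower k S R] [Module.Finite S R]
    (hf : IsEquiv (A := A) (IsScalarTower.toAlgHom k S R))
    (S₀ : Type u) [CommRing S₀] [Algebra k S₀] [Algebra S₀ S] [IsScalarTower k S₀ S]
    (hS₀i : Function.Injective (algebraMap S₀ S)) (hS₀ : (IsScalarTower.toAlgHom k S₀ S).range = GLin.invariants k A S)
    (R₀ : Type u) [CommRing R₀] [Algebra k R₀] [Algebra R₀ R] [IsScalarTower k R₀ R]
    (hR₀i : Function.Injective (algebraMap R₀ R)) (hR₀ : (IsScalarTower.toAlgHom k R₀ R).range = GLin.invariants k A R)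
    [Algebra S₀ R₀] [Algebra S₀ R] [IsScalarTower S₀ S R] [IsScalarTower S₀ R₀ R]
    (x : R →ₐ[k] k) (hx : GLin.IsClosedOrbit k A x) (m : Ideal R) [m.IsMaximal] (hm : m = RingHom.ker x.toRingHom)
    (het : Algebra.IsEtaleAt S m)
    (hinj : ∀ g : A →ₐ[k] k, GLin.actPt k g (x.comp (IsScalarTower.toAlgHom k S R)) = x.comp (IsScalarTower.toAlgHom k S R) →
      GLin.actPt k g x = x) :
    Algebra.IsEtaleAt S₀ (Ideal.comap (algebraMap R₀ R) m) ∧
      ∀ r : R, ∃ s : S, r - algebraMap S R s ∈ (Ideal.comap (algebraMap R₀ R) m).map (algebraMap R₀ R) := by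
  classical
  set f : S →ₐ[k] R := IsScalarTower.toAlgHom k S R
  set σ : S₀ →ₐ[k] S := IsScalarTower.toAlgHom k S₀ S
  set ι : R₀ →ₐ[k] R := IsScalarTower.toAlgHom k R₀ R
  have hsq : ∀ a : S₀, ι (algebraMap S₀ R₀ a) = f (σ a) := fun a => by
    change algebraMap R₀ R (algebraMap S₀ R₀ a) = algebraMap S R (algebraMap S₀ S a)
    rw [← IsScalarTower.algebraMap_apply, ← IsScalarTower.algebraMap_apply]
  haveI : IsScalarTower k S₀ R₀ := IsScalarTower.of_algebraMap_eq fun c => hR₀i (by
    change ι (algebraMap k R₀ c) = ι (algebraMap S₀ R₀ (algebraMap k S₀ c))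
    rw [hsq, AlgHom.commutes, AlgHom.commutes, AlgHom.commutes])
  have hσinv : ∀ a, σ a ∈ GLin.invariants k A S := fun a => hS₀ ▸ (σ.mem_range_self a)
  have hιinv : ∀ a, ι a ∈ GLin.invariants k A R := fun a => hR₀ ▸ (ι.mem_range_self a)
  haveI : Algebra.FiniteType k S₀ := finiteType_of_range_eq hG σ hS₀i hS₀
  haveI : Algebra.FiniteType k R₀ := finiteType_of_range_eq hG ι hR₀i hR₀
  haveI : IsNoetherianRing S₀ := Algebra.FiniteType.isNoetherianRing k S₀
  haveI : IsNoetherianRing S := Algebra.FiniteType.isNoetherianRing k S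
  haveI : IsNoetherianRing R := Algebra.FiniteType.isNoetherianRing k R
  haveI : Algebra.FiniteType S₀ R₀ := Algebra.FiniteType.of_restrictScalars_finiteType k S₀ R₀
  haveI : IsJacobsonRing R := isJacobsonRing_of_finiteType (A := k)
  have hEinv : ∀ s : S, Reynolds.reynolds hG s ∈ GLin.invariants k A S := fun s => Reynolds.reynolds_mem hG s
  have hEinv' : ∀ r : R, Reynolds.reynolds hG r ∈ GLin.invariants k A R := fun r => Reynolds.reynolds_mem hG r
  choose eS heS using fun s : S => (AlgHom.mem_range σ).1 (hS₀ ▸ hEinv s)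
  choose eR heR using fun r : R => (AlgHom.mem_range ι).1 (hR₀ ▸ hEinv' r)
  have hcomm : ∀ s : S, Reynolds.reynolds hG (f s) = f (Reynolds.reynolds hG s) := fun s =>
    Reynolds.reynolds_comm hG hf s
  have hcontractS : ∀ (J : Ideal S₀) (s : S), s ∈ J.map σ.toRingHom → eS s ∈ J := by
    intro J s hs
    suffices ∀ w ∈ J.map σ.toRingHom, ∀ v : S, eS (v * w) ∈ J by simpa using this s hs 1
    intro w hw
    have hadd : ∀ a b, eS (a + b) = eS a + eS b := fun a b => hS₀i (by
      change σ (eS (a + b)) = σ (eS a + eS b); rw [map_add, heS, heS, heS, map_add])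
    induction hw using Submodule.span_induction with
    | mem w hw =>
      obtain ⟨b, hb, rfl⟩ := hw
      intro v
      have : eS (v * σ b) = b * eS v := hS₀i (by
        change σ (eS (v * σ b)) = σ (b * eS v)
        rw [map_mul, heS, heS, mul_comm v, GrothLib.AffQuot.reynolds_mul hG (hσinv b)])
      exact (show eS (v * σ b) ∈ J from this ▸ J.mul_mem_right _ hb)
    | zero =>
      intro v
      have : eS (v * 0) = 0 := hS₀i (by change σ (eS (v * 0)) = σ 0; rw [heS, mul_zero, map_zero, map_zero])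
      rw [this]; exact J.zero_mem
    | add a b _ _ ha hb => intro v; rw [mul_add, hadd]; exact J.add_mem (ha v) (hb v)
    | smul c w _ hw => intro v; rw [smul_eq_mul, ← mul_assoc]; exact hw _
  have hcontractR : ∀ (J : Ideal R₀) (r : R), r ∈ J.map ι.toRingHom → eR r ∈ J := by
    intro J r hr
    suffices ∀ w ∈ J.map ι.toRingHom, ∀ v : R, eR (v * w) ∈ J by simpa using this r hr 1
    intro w hw
    have hadd : ∀ a b, eR (a + b) = eR a + eR b := fun a b => hR₀i (by
      change ι (eR (a + b)) = ι (eR a + eR b); rw [map_add, heR, heR, heR, map_add])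
    induction hw using Submodule.span_induction with
    | mem w hw =>
      obtain ⟨b, hb, rfl⟩ := hw
      intro v
      have : eR (v * ι b) = b * eR v := hR₀i (by
        change ι (eR (v * ι b)) = ι (b * eR v)
        rw [map_mul, heR, heR, mul_comm v, GrothLib.AffQuot.reynolds_mul hG (hιinv b)])
      exact (show eR (v * ι b) ∈ J from this ▸ J.mul_mem_right _ hb)
    | zero =>
      intro v
      have : eR (v * 0) = 0 := hR₀i (by change ι (eR (v * 0)) = ι 0; rw [heR, mul_zero, map_zero, map_zero])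
      rw [this]; exact J.zero_mem
    | add a b _ _ ha hb => intro v; rw [mul_add, hadd]; exact J.add_mem (ha v) (hb v)
    | smul c w _ hw => intro v; rw [smul_eq_mul, ← mul_assoc]; exact hw _
  -- integrality of the quotients
  haveI : Algebra.IsIntegral S₀ R₀ := ⟨fun a => by
    obtain ⟨P, hP, hPa⟩ := Algebra.IsIntegral.isIntegral (R := S) (ι a)
    have hkey : ∀ (i : ℕ) (c : S), ι (algebraMap S₀ R₀ (eS c) * a ^ i) = Reynolds.reynolds hG (f c * ι a ^ i) := by
      intro i c
      rw [map_mul, hsq, heS, map_pow, ← hcomm, mul_comm (f c), GrothLib.AffQuot.reynolds_mul hG (pow_mem (hιinv a) i), mul_comm]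
    refine ⟨Polynomial.X ^ P.natDegree + ∑ i ∈ Finset.range P.natDegree, Polynomial.C (eS (P.coeff i)) * Polynomial.X ^ i,
      Polynomial.monic_X_pow_add ((Polynomial.degree_sum_fin_lt (fun i : Fin P.natDegree => eS (P.coeff i))).trans_eq' ?_), hR₀i ?_⟩
    · rw [Finset.sum_range]
    · change ι _ = ι 0
      rw [map_zero, Polynomial.eval₂_add, Polynomial.eval₂_finsetSum, Polynomial.eval₂_X_pow, map_add, map_sum]
      simp only [Polynomial.eval₂_mul, Polynomial.eval₂_C, Polynomial.eval₂_X_pow, hkey]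
      have h1 := hPa
      rw [hP.as_sum, Polynomial.eval₂_add, Polynomial.eval₂_finsetSum, Polynomial.eval₂_X_pow] at h1
      simp only [Polynomial.eval₂_mul, Polynomial.eval₂_C, Polynomial.eval₂_X_pow] at h1
      have h2 := congrArg (Reynolds.reynolds hG) h1
      rw [map_add, map_sum, map_zero, Reynolds.reynolds_fixed hG (pow_mem (hιinv a) _)] at h2
      rw [map_pow]
      exact h2⟩
  -- the points
  set y : S →ₐ[k] k := x.comp f with hy
  set xq : R₀ →ₐ[k] k := x.comp ι with hxq
  set yp : S₀ →ₐ[k] k := y.comp σ with hyp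
  have hxy : ∀ a, xq (algebraMap S₀ R₀ a) = yp a := fun a => congrArg x (hsq a)
  have hq : Ideal.comap (algebraMap R₀ R) m = RingHom.ker xq := by rw [hm]; rfl
  set q : Ideal R₀ := Ideal.comap (algebraMap R₀ R) m with hqdef
  set p : Ideal S₀ := RingHom.ker yp with hpdef
  haveI hpmax : p.IsMaximal := GrothLib.AffQuot.ker_isMaximal yp
  haveI hqmax : q.IsMaximal := hq ▸ GrothLib.AffQuot.ker_isMaximal xq
  haveI hqp : q.LiesOver p := ⟨Ideal.ext fun a => by
    change yp a = 0 ↔ algebraMap S₀ R₀ a ∈ q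
    rw [hq, RingHom.mem_ker, hxy]⟩
  set n : Ideal S := RingHom.ker y with hn
  haveI hnmax : n.IsMaximal := GrothLib.AffQuot.ker_isMaximal y
  haveI hmn : m.LiesOver n := ⟨by rw [hm]; rfl⟩
  have hclosedy : GLin.IsClosedOrbit k A y := isClosedOrbit_comp hf hx
  haveI : Algebra.FinitePresentation S R := Algebra.FinitePresentation.of_finiteType.1 inferInstance
  let := Localization.AtPrime.algebraOfLiesOver n m
  haveI : Algebra.IsSmoothAt S m := (Algebra.FormallyEtale.iff_formallyUnramified_and_formallySmooth.mp het).2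
  haveI : Algebra.IsUnramifiedAt S m := (Algebra.FormallyEtale.iff_formallyUnramified_and_formallySmooth.mp het).1
  haveI : Module.Flat (Localization.AtPrime n) (Localization.AtPrime m) := GrothLib.LocProp.flat_of_isSmoothAt n m
  haveI : IsLocalHom (algebraMap (Localization.AtPrime n) (Localization.AtPrime m)) := inferInstance
  haveI : Module.FaithfullyFlat (Localization.AtPrime n) (Localization.AtPrime m) := Module.FaithfullyFlat.of_flat_of_isLocalHom
  have hunr : n.map (algebraMap S (Localization.AtPrime m)) = IsLocalRing.maximalIdeal _ :=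
    ((Algebra.isUnramifiedAt_iff_map_eq S n m).1 inferInstance).2
  let L := Localization.AtPrime q
  let Lm := Localization.AtPrime m
  let l : L →+* Lm := Localization.localRingHom q m (algebraMap R₀ R) rfl
  have hl : ∀ a, l (algebraMap R₀ L a) = algebraMap R Lm (ι a) := fun a => Localization.localRingHom_to_map _ _ _ _ a
  -- the levels
  suffices key : ∀ N : ℕ,
      (∀ a : R₀, ∃ r : S₀, algebraMap R₀ L (a - algebraMap S₀ R₀ r) ∈ (p ^ N).map (algebraMap S₀ L)) ∧
      (∀ r : S₀, algebraMap S₀ L r ∈ (p ^ N).map (algebraMap S₀ L) → r ∈ p ^ N) ∧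
      (0 < N → ∀ r : R, ∃ s : S, r - f s ∈ q.map ι.toRingHom) by
    exact ⟨isEtaleAt_of_levels p q (fun N => (key N).1) (fun N => (key N).2.1), (key 1).2.2 one_pos⟩
  intro N
  rcases Nat.eq_zero_or_pos N with rfl | hN
  · exact ⟨fun a => ⟨0, by simp [Ideal.map_top]⟩, fun r _ => by simp, fun h => absurd h (lt_irrefl 0)⟩
  set J : Ideal R₀ := ((p ^ N).map (algebraMap S₀ L)).comap (algebraMap R₀ L) with hJ
  set JR : Ideal R := J.map ι.toRingHom with hJR
  have hpJ : ∀ r ∈ p ^ N, algebraMap S₀ R₀ r ∈ J := fun r hr => by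
    rw [hJ, Ideal.mem_comap, ← IsScalarTower.algebraMap_apply]; exact Ideal.mem_map_of_mem _ hr
  have hpS : ∀ s ∈ (p ^ N).map σ.toRingHom, f s ∈ JR := by
    intro s hs
    induction hs using Submodule.span_induction with
    | mem s hs =>
      obtain ⟨r, hr, rfl⟩ := hs
      change f (σ r) ∈ JR
      rw [← hsq]; exact Ideal.mem_map_of_mem _ (hpJ r hr)
    | zero => simp
    | add a b _ _ ha hb => rw [map_add]; exact JR.add_mem ha hb
    | smul c a _ ha => rw [smul_eq_mul, map_mul]; exact JR.mul_mem_left _ ha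
  have hJq : ∀ P : Ideal R₀, P.IsPrime → J ≤ P → P = q := by
    intro P hP hle
    refine (hqmax.eq_of_le hP.ne_top fun a ha => ?_).symm
    obtain ⟨e, he⟩ : algebraMap R₀ L a ∈ ((p ^ N).map (algebraMap S₀ L)).radical := by
      rw [Ideal.radical_eq_sInf, Submodule.mem_sInf]
      rintro Q ⟨hQle, hQ⟩
      haveI : (Ideal.under R₀ Q).IsPrime := Ideal.IsPrime.comap _
      have h1 : (Ideal.under R₀ Q).comap (algebraMap S₀ R₀) = p := by
        refine (hpmax.eq_of_le (Ideal.IsPrime.ne_top (Ideal.IsPrime.comap _)) fun r hr => ?_).symm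
        rw [Ideal.mem_comap, Ideal.mem_comap, ← IsScalarTower.algebraMap_apply]
        exact hQ.mem_of_pow_mem N (by rw [← map_pow]; exact hQle (Ideal.mem_map_of_mem _ (Ideal.pow_mem_pow hr N)))
      haveI : (Ideal.under R₀ Q).IsMaximal := Ideal.isMaximal_of_isIntegral_of_isMaximal_comap (R := S₀) _ (h1 ▸ hpmax)
      have hdis := ((IsLocalization.isPrime_iff_isPrime_disjoint q.primeCompl L Q).1 hQ).2
      have h2 : Ideal.under R₀ Q = q := Ideal.IsMaximal.eq_of_le ‹_› hqmax.ne_top fun b hb => by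
        by_contra hbq; exact Set.disjoint_left.1 hdis hbq hb
      exact (h2.ge ha : a ∈ Ideal.under R₀ Q)
    exact hP.mem_of_pow_mem e (hle (by rw [hJ, Ideal.mem_comap, map_pow]; exact he))
  have hJLm : ∀ r ∈ JR, algebraMap R Lm r ∈ ((p ^ N).map σ.toRingHom).map (algebraMap S Lm) := by
    have hl' : ((p ^ N).map (algebraMap S₀ L)).map l ≤ ((p ^ N).map σ.toRingHom).map (algebraMap S Lm) := by
      rw [Ideal.map_le_iff_le_comap, Ideal.map_le_iff_le_comap]
      intro r hr
      rw [Ideal.mem_comap, Ideal.mem_comap, IsScalarTower.algebraMap_apply S₀ R₀ L, hl, hsq]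
      change algebraMap R Lm (algebraMap S R (σ r)) ∈ _
      rw [← IsScalarTower.algebraMap_apply]
      exact Ideal.mem_map_of_mem _ (Ideal.mem_map_of_mem σ.toRingHom hr)
    intro r hr
    induction hr using Submodule.span_induction with
    | mem r hr =>
      obtain ⟨a, ha, rfl⟩ := hr
      change algebraMap R Lm (ι a) ∈ _
      rw [← hl]; exact hl' (Ideal.mem_map_of_mem l ha)
    | zero => simp
    | add a b _ _ ha hb => rw [map_add]; exact Ideal.add_mem _ ha hb
    | smul c a _ ha => rw [smul_eq_mul, map_mul]; exact Ideal.mul_mem_left _ _ ha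
  have hpts : ∀ z : R →ₐ[k] k, (∀ r ∈ JR, z r = 0) → ∀ b ∈ fixedPts k A R, z b = x b := by
    intro z hz b hb
    obtain ⟨a, rfl⟩ := (AlgHom.mem_range ι).1 (hR₀ ▸ hb : b ∈ ι.range)
    have h1 := hJq (RingHom.ker (z.comp ι)) (RingHom.ker_isPrime _) fun a ha => hz _ (Ideal.mem_map_of_mem ι.toRingHom ha)
    rw [hq] at h1
    exact (AlgHom.congr_fun (GrothLib.AffQuot.eq_of_ker_le (z := z.comp ι) (w := xq) h1.le) a :)
  -- the only point of the thickened fibre over y is x
  have hI2 : JR ⊔ n.map (algebraMap S R) = m := by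
    set I2 := JR ⊔ n.map (algebraMap S R)
    have hle : I2 ≤ m := by
      refine sup_le (Ideal.map_le_iff_le_comap.2 fun a ha => ?_) (Ideal.map_le_iff_le_comap.2 fun s hs => (hmn.over ▸ hs : s ∈ m.under S))
      by_contra haq
      have hu : IsUnit (algebraMap R₀ L a) := IsLocalization.map_units L (⟨a, haq⟩ : q.primeCompl)
      refine IsLocalRing.maximalIdeal.isMaximal L |>.ne_top (Ideal.eq_top_of_isUnit_mem _ ?_ hu)
      refine Ideal.map_le_iff_le_comap.2 (fun r hr => ?_) (ha : algebraMap R₀ L a ∈ (p ^ N).map (algebraMap S₀ L))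
      rw [Ideal.mem_comap, IsScalarTower.algebraMap_apply S₀ R₀ L, IsLocalization.AtPrime.to_map_mem_maximal_iff L q]
      exact (hqp.over ▸ Ideal.pow_le_self hN.ne' hr : r ∈ q.under S₀)
    have honly : ∀ M : Ideal R, M.IsMaximal → I2 ≤ M → M = m := by
      intro M hM hIM
      obtain ⟨z, rfl⟩ := GrothLib.AffQuot.exists_ker_eq (k := k) M
      have hzy : z.comp f = y := GrothLib.AffQuot.eq_of_ker_le (w := y) (z := z.comp f) (le_of_eq
        ((hnmax.eq_of_le (RingHom.ker_isPrime (z.comp f)).ne_top fun s hs =>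
          hIM (Ideal.mem_sup_right (Ideal.mem_map_of_mem _ hs))).symm))
      have := eq_of_finite' hG hf hx hinj (hpts z fun r hr => hIM (Ideal.mem_sup_left hr)) hzy
      rw [this, hm]; rfl
    refine le_antisymm hle fun a ha => ?_
    have h1 : algebraMap R Lm a ∈ (n.map (algebraMap S R)).map (algebraMap R Lm) := by
      rw [Ideal.map_map, ← IsScalarTower.algebraMap_eq, hunr]
      exact (IsLocalization.AtPrime.to_map_mem_maximal_iff Lm m _).2 ha
    obtain ⟨u, hu, hua⟩ := (IsLocalization.algebraMap_mem_map_algebraMap_iff m.primeCompl Lm _ _).1 h1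
    have htop : Ideal.span {u} ⊔ I2 = ⊤ := by
      by_contra hne
      obtain ⟨M, hM, hMle⟩ := Ideal.exists_le_maximal _ hne
      exact hu ((honly M hM (le_sup_right.trans hMle)) ▸ hMle (Ideal.mem_sup_left (Ideal.mem_span_singleton_self u)))
    obtain ⟨c, hc, d, hd, hcd⟩ := Submodule.mem_sup.1 (htop ▸ Submodule.mem_top : (1 : R) ∈ Ideal.span {u} ⊔ I2)
    obtain ⟨t, rfl⟩ := Ideal.mem_span_singleton'.1 hc
    rw [← one_mul a, ← hcd, add_mul, mul_assoc]
    exact I2.add_mem (I2.mul_mem_left _ (Ideal.mem_sup_right hua)) (I2.mul_mem_right _ hd)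
  -- every stable ideal of S containing the level and not vanishing at y is trivial
  have hstab : ∀ C : Ideal S, (∀ (g : A →ₐ[k] k), ∀ s ∈ C, Comod.act k A S g s ∈ C) →
      (p ^ N).map σ.toRingHom ≤ C → ¬ C ≤ n → C = ⊤ := by
    intro C hC hle hCn
    by_contra hne
    obtain ⟨w, hw⟩ := GrothLib.AffQuot.exists_point (k := k) hne
    have hwy : w.comp σ = yp := GrothLib.AffQuot.eq_of_ker_le (z := w.comp σ) (w := yp) (le_of_eq
      ((hpmax.eq_of_le (RingHom.ker_isPrime (w.comp σ)).ne_top fun r hr =>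
        (RingHom.ker_isPrime (w.comp σ)).mem_of_pow_mem N (hw _ (hle (Ideal.mem_map_of_mem _ (Ideal.pow_mem_pow hr N))))).symm))
    refine hCn (le_ker_of_cl C hC hw (GrothLib.AffQuot.cl_of_closed hG
      ((GrothLib.AffQuot.isClosedOrbit_iff y).1 hclosedy) fun b hb => ?_))
    obtain ⟨a, rfl⟩ := (AlgHom.mem_range σ).1 (hS₀ ▸ hb : b ∈ σ.range)
    exact AlgHom.congr_fun hwy a
  -- surjectivity
  let W : Submodule S R := LinearMap.range (Algebra.linearMap S R) ⊔ JR.restrictScalars S
  have hWmem : ∀ (g : A →ₐ[k] k), ∀ r ∈ W, Comod.act k A R g r ∈ W := by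
    intro g r hr
    obtain ⟨a, ⟨s, rfl⟩, b, hb, rfl⟩ := Submodule.mem_sup.1 hr
    rw [map_add]
    refine Submodule.add_mem_sup ⟨Comod.act k A S g s, ?_⟩ (act_mem_map ι.toRingHom hιinv J g hb)
    exact hf.act_map g s
  let C : Ideal S := Module.annihilator S (R ⧸ W)
  have hCmem : ∀ s, s ∈ C ↔ ∀ r : R, f s * r ∈ W := by
    intro s
    rw [Module.mem_annihilator]
    refine ⟨fun h r => (Submodule.Quotient.mk_eq_zero W).1 ?_, fun h t => ?_⟩
    · rw [show f s * r = s • r from (Algebra.smul_def s r).symm, Submodule.Quotient.mk_smul]; exact h _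
    · induction t using Submodule.Quotient.induction_on with | _ r => ?_
      rw [← Submodule.Quotient.mk_smul, Submodule.Quotient.mk_eq_zero, Algebra.smul_def]
      exact h r
  have hC : C = ⊤ := by
    refine hstab C (fun g s hs => (hCmem _).2 fun r => ?_) (fun s hs => (hCmem s).2 fun r =>
      Submodule.mem_sup_right (JR.mul_mem_right _ (hpS s hs))) fun hle => ?_
    · obtain ⟨h, hh⟩ := exists_act_inv (R := R) g
      rw [← hh r, hf.act_map, ← act_mul_elem]
      exact hWmem g _ ((hCmem s).1 hs _)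
    · have htop : (⊤ : Submodule S (R ⧸ W)) ≤ n • ⊤ := by
        rintro t -
        induction t using Submodule.Quotient.induction_on with | _ r => ?_
        have hr : r - algebraMap k R (x r) ∈ m := by rw [hm, RingHom.mem_ker]; simp
        obtain ⟨a, ha, b, hb, hab⟩ := Submodule.mem_sup.1 (hI2 ▸ hr)
        rw [show r = (algebraMap S R (algebraMap k S (x r)) + a) + b by
          rw [← IsScalarTower.algebraMap_apply, add_assoc, hab, add_sub_cancel], Submodule.Quotient.mk_add,
          (Submodule.Quotient.mk_eq_zero W).2 (Submodule.add_mem_sup (show algebraMap S R (algebraMap k S (x r)) ∈ _ from ⟨algebraMap k S (x r), rfl⟩) ha), zero_add]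
        have : b ∈ n • (⊤ : Submodule S R) := by rw [Ideal.smul_top_eq_map]; exact hb
        have h2 := Submodule.mem_map_of_mem (f := W.mkQ) this
        rw [Submodule.map_smul'', Submodule.map_top, Submodule.range_mkQ] at h2
        exact h2
      obtain ⟨s, hs, hs0⟩ := Submodule.exists_sub_one_mem_and_smul_eq_zero_of_fg_of_le_smul n ⊤ Module.Finite.fg_top htop
      have hsC : s ∈ C := Module.mem_annihilator.2 fun t => hs0 t Submodule.mem_top
      exact hnmax.ne_top ((Ideal.eq_top_iff_one n).2 (by simpa using n.sub_mem (hle hsC) hs))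
  -- injectivity
  let P : Ideal S := JR.comap f.toRingHom
  let K : Ideal S := ((p ^ N).map σ.toRingHom).colon (P : Set S)
  have hKmem : ∀ a, a ∈ K ↔ ∀ b ∈ P, a * b ∈ (p ^ N).map σ.toRingHom := fun a => Submodule.mem_colon
  have hK : K = ⊤ := by
    refine hstab K (fun g a ha => (hKmem _).2 fun b hb => ?_) (fun a ha => (hKmem a).2 fun b _ => Ideal.mul_mem_right _ _ ha) fun hle => ?_
    · obtain ⟨h, hh⟩ := exists_act_inv (R := S) g
      rw [← hh b, ← act_mul_elem]
      refine act_mem_map σ.toRingHom hσinv _ g ((hKmem a).1 ha _ ?_)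
      change f (Comod.act k A S h b) ∈ JR
      rw [hf.act_map]
      exact act_mem_map ι.toRingHom hιinv J h hb
    · have hloc : P.map (algebraMap S (Localization.AtPrime n)) ≤ ((p ^ N).map σ.toRingHom).map (algebraMap S (Localization.AtPrime n)) := by
        rw [← Ideal.comap_map_eq_self_of_faithfullyFlat (B := Lm) (((p ^ N).map σ.toRingHom).map (algebraMap S (Localization.AtPrime n))),
          Ideal.map_map, ← IsScalarTower.algebraMap_eq, Ideal.map_le_iff_le_comap, Ideal.comap_comap, ← IsScalarTower.algebraMap_eq]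
        intro b hb
        rw [Ideal.mem_comap, IsScalarTower.algebraMap_apply S R Lm]
        exact hJLm _ hb
      have hu : ∀ b ∈ P, ∃ u : S, u ∉ n ∧ u * b ∈ (p ^ N).map σ.toRingHom := fun b hb => by
        obtain ⟨u, hu, h⟩ := (IsLocalization.algebraMap_mem_map_algebraMap_iff n.primeCompl _ _ _).1 (hloc (Ideal.mem_map_of_mem _ hb))
        exact ⟨u, hu, h⟩
      obtain ⟨T, hT⟩ := IsNoetherian.noetherian P
      have hTP : ∀ b ∈ T, b ∈ P := fun b hb => hT ▸ Submodule.subset_span hb
      choose U hU hUb using fun b : T => hu b (hTP b b.2)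
      refine (hnmax.isPrime.prod_mem_iff (s := Finset.univ) (x := U)).not.2 (fun h => h.elim fun b hb => hU b hb.2) (hle ((hKmem _).2 fun b hb => ?_))
      rw [← hT] at hb
      induction hb using Submodule.span_induction with
      | mem b hb =>
        obtain ⟨c, hc⟩ := Finset.dvd_prod_of_mem U (Finset.mem_univ (⟨b, hb⟩ : T))
        rw [hc, mul_right_comm]
        exact Ideal.mul_mem_right _ _ (hUb ⟨b, hb⟩)
      | zero => simp
      | add a b _ _ ha hb => rw [mul_add]; exact Ideal.add_mem _ ha hb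
      | smul c a _ ha => rw [smul_eq_mul, mul_left_comm]; exact Ideal.mul_mem_left _ _ ha
  refine ⟨fun a => ?_, fun r hr => ?_, fun _ r => ?_⟩
  · have h1 : ι a ∈ W := by
      simpa using (hCmem 1).1 (hC ▸ Submodule.mem_top) (ι a)
    obtain ⟨c, ⟨s, rfl⟩, j, hj, hsum⟩ := Submodule.mem_sup.1 h1
    refine ⟨eS s, ?_⟩
    have h2 : a - algebraMap S₀ R₀ (eS s) = eR j := hR₀i (by
      change ι (a - algebraMap S₀ R₀ (eS s)) = ι (eR j)
      rw [map_sub, hsq, heS, heR, ← hcomm, ← Reynolds.reynolds_fixed hG (hιinv a), ← map_sub, ← hsum]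
      exact congrArg _ (add_sub_cancel_left _ _))
    rw [h2]
    exact hcontractR J j hj
  · have h1 : σ r ∈ P := by
      change f (σ r) ∈ JR
      rw [← hsq]; refine Ideal.mem_map_of_mem _ ?_
      rw [hJ, Ideal.mem_comap, ← IsScalarTower.algebraMap_apply]; exact hr
    have h2 : σ r ∈ (p ^ N).map σ.toRingHom := by simpa using (hKmem 1).1 (hK ▸ Submodule.mem_top) _ h1
    have h3 := hcontractS _ _ h2
    rwa [show eS (σ r) = r from hS₀i (show σ (eS (σ r)) = σ r by rw [heS, Reynolds.reynolds_fixed hG (hσinv r)])] at h3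
  · have h1 : r ∈ W := by simpa using (hCmem 1).1 (hC ▸ Submodule.mem_top) r
    obtain ⟨c, ⟨s, rfl⟩, j, hj, hsum⟩ := Submodule.mem_sup.1 h1
    refine ⟨s, ?_⟩
    rw [← hsum]
    have hJle : J ≤ q := by
      obtain ⟨P, hP, hPle⟩ := Ideal.exists_le_maximal J fun h => by
        rw [hJ, Ideal.comap_eq_top_iff] at h
        refine (IsLocalRing.maximalIdeal.isMaximal L).ne_top (top_le_iff.1 (h ▸ ?_))
        refine Ideal.map_le_iff_le_comap.2 fun r hr => ?_
        rw [Ideal.mem_comap, IsScalarTower.algebraMap_apply S₀ R₀ L, IsLocalization.AtPrime.to_map_mem_maximal_iff L q]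
        exact (hqp.over ▸ Ideal.pow_le_self hN.ne' hr : r ∈ q.under S₀)
      exact hPle.trans (hJq P hP.isPrime hPle).le
    refine Ideal.map_mono hJle ?_
    have : Algebra.linearMap S R s + j - f s = j := add_sub_cancel_left _ _
    exact this.symm ▸ hj

/-- the induced map of quotients is étale at the image of the point -/
theorem isEtaleAt_invariants (hG : IsLinearlyReductive k A)
    (S : Type u) [CommRing S] [IsReduced S] [Algebra k S] [Algebra.FiniteType k S] [Comod k A S] [IsCoactAlg k A S]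
    (R : Type u) [CommRing R] [IsReduced R] [Algebra k R] [Algebra.FiniteType k R] [Comod k A R] [IsCoactAlg k A R]
    [Algebra S R] [IsScalarTower k S R] [Module.Finite S R]
    (hf : IsEquiv (A := A) (IsScalarTower.toAlgHom k S R))
    (S₀ : Type u) [CommRing S₀] [Algebra k S₀] [Algebra S₀ S] [IsScalarTower k S₀ S]
    (hS₀i : Function.Injective (algebraMap S₀ S)) (hS₀ : (IsScalarTower.toAlgHom k S₀ S).range = GLin.invariants k A S)
    (R₀ : Type u) [CommRing R₀] [Algebra k R₀] [Algebra R₀ R] [IsScalarTower k R₀ R]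
    (hR₀i : Function.Injective (algebraMap R₀ R)) (hR₀ : (IsScalarTower.toAlgHom k R₀ R).range = GLin.invariants k A R)
    [Algebra S₀ R₀] [Algebra S₀ R] [IsScalarTower S₀ S R] [IsScalarTower S₀ R₀ R]
    (x : R →ₐ[k] k) (hx : GLin.IsClosedOrbit k A x) (m : Ideal R) [m.IsMaximal] (hm : m = RingHom.ker x.toRingHom)
    (het : Algebra.IsEtaleAt S m)
    (hinj : ∀ g : A →ₐ[k] k, GLin.actPt k g (x.comp (IsScalarTower.toAlgHom k S R)) = x.comp (IsScalarTower.toAlgHom k S R) →
      GLin.actPt k g x = x) :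
    Algebra.IsEtaleAt S₀ (Ideal.comap (algebraMap R₀ R) m) :=
  (isEtaleAt_invariants_and_surjective hG S R hf S₀ hS₀i hS₀ R₀ hR₀i hR₀ x hx m hm het hinj).1

end GrothLib.GLSlice
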