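import Groth.Agent.Lib.GLSlice.Translate
import Mathlib.RingTheory.ZariskisMainTheorem
import Mathlib.RingTheory.Etale.Basic

/-!
# Equivariant finite subalgebras of a quasi-finite algebra
-/

universe u

open TensorProduct HopfRep GLin

namespace GrothLib.GLSlice

/-- primes over a compatible pair in a tensor product -/
theorem exists_prime_tensor {A B C : Type u} [CommRing A] [CommRing B] [CommRing C]
    [Algebra A B] [Algebra A C] (q : Ideal B) [q.IsPrime] (c : Ideal C) [c.IsPrime]
    (h : q.comap (algebraMap A B) = c.comap (algebraMap A C)) :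
    ∃ Q : Ideal (C ⊗[A] B), Q.IsPrime ∧ Q.comap (algebraMap C (C ⊗[A] B)) = c ∧
      Q.comap (Algebra.TensorProduct.includeRight : B →ₐ[A] C ⊗[A] B).toRingHom = q := by
  let p := c.comap (algebraMap A C)
  haveI : p.IsPrime := Ideal.IsPrime.comap _
  let k := p.ResidueField
  letI : Algebra k q.ResidueField := (Ideal.ResidueField.map p q (algebraMap A B) h.symm).toAlgebra
  letI : Algebra k c.ResidueField := (Ideal.ResidueField.map p c (algebraMap A C) rfl).toAlgebra
  let T := c.ResidueField ⊗[k] q.ResidueField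
  obtain ⟨M, hM⟩ := Ideal.exists_maximal T
  letI := Ideal.Quotient.field M
  haveI : IsScalarTower A k q.ResidueField := IsScalarTower.of_algebraMap_eq fun a => by
    show _ = Ideal.ResidueField.map p q (algebraMap A B) h.symm (algebraMap A k a)
    rw [Ideal.ResidueField.map_algebraMap, ← IsScalarTower.algebraMap_apply]
  haveI : IsScalarTower A k c.ResidueField := IsScalarTower.of_algebraMap_eq fun a => by
    show _ = Ideal.ResidueField.map p c (algebraMap A C) rfl (algebraMap A k a)
    rw [Ideal.ResidueField.map_algebraMap, ← IsScalarTower.algebraMap_apply]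
  let mk : T →ₐ[A] T ⧸ M := (Ideal.Quotient.mkₐ k M).restrictScalars A
  let φc : C →ₐ[A] T ⧸ M := mk.comp
    (((Algebra.TensorProduct.includeLeft : c.ResidueField →ₐ[k] T).restrictScalars A).comp
      (IsScalarTower.toAlgHom A C c.ResidueField))
  let φq : B →ₐ[A] T ⧸ M := mk.comp
    (((Algebra.TensorProduct.includeRight : q.ResidueField →ₐ[k] T).restrictScalars A).comp
      (IsScalarTower.toAlgHom A B q.ResidueField))
  let Φ : C ⊗[A] B →ₐ[A] T ⧸ M := Algebra.TensorProduct.lift φc φq fun _ _ => Commute.all _ _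
  refine ⟨RingHom.ker Φ.toRingHom, RingHom.ker_isPrime _, Ideal.ext fun x => ?_, Ideal.ext fun x => ?_⟩
  · show Φ (x ⊗ₜ[A] (1 : B)) = 0 ↔ _
    rw [Algebra.TensorProduct.lift_tmul, map_one, mul_one]
    exact (map_eq_zero (((Ideal.Quotient.mk M).comp
      (Algebra.TensorProduct.includeLeft : c.ResidueField →ₐ[k] T).toRingHom))).trans
      Ideal.algebraMap_residueField_eq_zero
  · show Φ ((1 : C) ⊗ₜ[A] x) = 0 ↔ _
    rw [Algebra.TensorProduct.lift_tmul, map_one, one_mul]
    exact (map_eq_zero (((Ideal.Quotient.mk M).comp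
      (Algebra.TensorProduct.includeRight : q.ResidueField →ₐ[k] T).toRingHom))).trans
      Ideal.algebraMap_residueField_eq_zero

/-- a prime avoiding an element lifts along a map which is an isomorphism after inverting it -/
theorem exists_prime_comap_eq {B R : Type*} [CommRing B] [CommRing R] (j : B →+* R) (h : B)
    (hker : ∀ b, j b = 0 → ∃ n : ℕ, h ^ n * b = 0) (him : ∀ r : R, ∃ (n : ℕ) (b : B), j b = j h ^ n * r)
    (T : Ideal B) [T.IsPrime] (hT : h ∉ T) : ∃ Q : Ideal R, Q.IsPrime ∧ j h ∉ Q ∧ Q.comap j = T := by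
  have hmap : (T.map j).comap j = T := by
    refine le_antisymm (fun z hz => ?_) Ideal.le_comap_map
    have key : ∀ w ∈ T.map j, ∀ c : R, ∃ n : ℕ, ∃ t ∈ T, j h ^ n * (c * w) = j t := by
      intro w hw
      induction hw using Submodule.span_induction with
      | mem w hw =>
        obtain ⟨t, ht, rfl⟩ := hw
        intro c
        obtain ⟨n, b, hb⟩ := him c
        exact ⟨n, b * t, T.mul_mem_left _ ht, by rw [map_mul, hb, mul_assoc]⟩
      | zero => intro c; exact ⟨0, 0, T.zero_mem, by simp⟩
      | add a b _ _ ha hb =>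
        intro c
        obtain ⟨n, t, ht, hn⟩ := ha c
        obtain ⟨n', t', ht', hn'⟩ := hb c
        refine ⟨n + n', h ^ n' * t + h ^ n * t', T.add_mem (T.mul_mem_left _ ht) (T.mul_mem_left _ ht'), ?_⟩
        rw [map_add, map_mul, map_mul, map_pow, map_pow, ← hn, ← hn', pow_add]
        ring
      | smul d a _ ha => intro c; rw [smul_eq_mul, ← mul_assoc]; exact ha _
    obtain ⟨n, t, ht, hn⟩ := key _ hz 1
    rw [one_mul, ← map_pow, ← map_mul, ← sub_eq_zero, ← map_sub] at hn
    obtain ⟨l, hl⟩ := hker _ hn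
    have h1 : h ^ n * z - t ∈ T := ((‹T.IsPrime›).mem_or_mem (hl ▸ T.zero_mem)).resolve_left
      fun h' => hT ((‹T.IsPrime›).mem_of_pow_mem l h')
    have h2 : h ^ n * z ∈ T := by simpa using T.add_mem h1 ht
    exact ((‹T.IsPrime›).mem_or_mem h2).resolve_left fun h' => hT ((‹T.IsPrime›).mem_of_pow_mem n h')
  obtain ⟨Q, hQ, hQT⟩ := (Ideal.comap_map_eq_self_iff_of_isPrime T).1 hmap
  exact ⟨Q, hQ, fun h' => hT (hQT ▸ h'), hQT⟩

/-- étaleness at a prime is unchanged along an isomorphism away from it -/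
theorem isEtaleAt_iff_of_away {S B R : Type u} [CommRing S] [CommRing B] [CommRing R] [Algebra S B] [Algebra S R]
    (j : B →ₐ[S] R) (hj : Function.Injective j) (h : B) (him : ∀ r : R, ∃ n : ℕ, j h ^ n * r ∈ j.range)
    (Q : Ideal R) [Q.IsPrime] (T : Ideal B) [T.IsPrime] (hT : T = Q.comap j.toRingHom) (hQ : j h ∉ Q) :
    Algebra.IsEtaleAt S T ↔ Algebra.IsEtaleAt S Q := by
  subst hT
  let T := Q.comap j.toRingHom
  let Λ : Localization.AtPrime T →ₐ[S] Localization.AtPrime Q :=
    IsLocalization.liftAlgHom (M := T.primeCompl)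
      (f := (IsScalarTower.toAlgHom S R (Localization.AtPrime Q)).comp j)
      fun c => IsLocalization.map_units (Localization.AtPrime Q) (⟨j c, c.2⟩ : Q.primeCompl)
  have hΛ : ∀ c, Λ (algebraMap B _ c) = algebraMap R (Localization.AtPrime Q) (j c) := fun c => by
    simp [Λ, IsLocalization.lift_eq]
  have hbij : Function.Bijective Λ := by
    refine ⟨(injective_iff_map_eq_zero Λ).2 fun w hw => ?_, fun w => ?_⟩
    · obtain ⟨b, t, rfl⟩ := IsLocalization.exists_mk'_eq T.primeCompl w
      have h1 : algebraMap R (Localization.AtPrime Q) (j b) = 0 := by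
        rw [← hΛ, ← IsLocalization.mk'_spec (Localization.AtPrime T) b t, map_mul, hw, zero_mul]
      obtain ⟨⟨r, hr⟩, hrb⟩ := (IsLocalization.map_eq_zero_iff Q.primeCompl _ _).1 h1
      obtain ⟨n, c, hc⟩ := him r
      refine (IsLocalization.mk'_eq_zero_iff b t).2 ⟨⟨c, fun hcT => ?_⟩, hj ?_⟩
      · have h2 : j c ∈ Q := hcT
        rw [show j c = j h ^ n * r from hc] at h2
        exact hr (((‹Q.IsPrime›).mem_or_mem h2).resolve_left fun h' => hQ ((‹Q.IsPrime›).mem_of_pow_mem n h'))
      · rw [map_mul, map_zero, show j c = j h ^ n * r from hc, mul_assoc, show r * j b = 0 from hrb, mul_zero]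
    · obtain ⟨r, t, rfl⟩ := IsLocalization.exists_mk'_eq Q.primeCompl w
      obtain ⟨n, c, hc⟩ := him r
      obtain ⟨l, d, hd⟩ := him t
      change j c = _ at hc
      change j d = _ at hd
      have hdT : h ^ n * d ∉ T := fun hdT => by
        have h2 : j (h ^ n * d) ∈ Q := hdT
        rw [map_mul, map_pow, hd, ← mul_assoc, ← pow_add] at h2
        exact t.2 (((‹Q.IsPrime›).mem_or_mem h2).resolve_left fun h' => hQ ((‹Q.IsPrime›).mem_of_pow_mem _ h'))
      refine ⟨IsLocalization.mk' _ (h ^ l * c) (⟨_, hdT⟩ : T.primeCompl), ?_⟩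
      refine (IsLocalization.map_units (Localization.AtPrime Q) (⟨j (h ^ n * d), hdT⟩ : Q.primeCompl)).mul_right_cancel ?_
      change Λ _ * algebraMap R _ (j (h ^ n * d)) = _ * algebraMap R _ (j (h ^ n * d))
      conv_lhs => rw [← hΛ (h ^ n * d), ← map_mul, IsLocalization.mk'_spec, hΛ]
      rw [map_mul j, map_mul j, map_pow j, map_pow j, hc, hd, show j h ^ n * (j h ^ l * (t : R)) = (t : R) * (j h ^ (n + l)) by ring,
        show j h ^ l * (j h ^ n * r) = r * j h ^ (n + l) by ring, map_mul, map_mul, ← mul_assoc, IsLocalization.mk'_spec]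
  let e : Localization.AtPrime T ≃ₐ[S] Localization.AtPrime Q := AlgEquiv.ofBijective Λ hbij
  exact ⟨fun _ => Algebra.FormallyEtale.of_equiv e, fun _ => Algebra.FormallyEtale.of_equiv e.symm⟩

variable {k : Type u} [Field k] [IsAlgClosed k] {A : Type u} [CommRing A] [IsReduced A] [HopfAlgebra k A]
  [Algebra.FiniteType k A]
  {S : Type u} [CommRing S] [Algebra k S] [Comod k A S] [IsCoactAlg k A S]
  {R : Type u} [CommRing R] [Algebra k R] [Comod k A R] [IsCoactAlg k A R]
  [Algebra S R] [IsScalarTower k S R]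

/-- finitely many integral elements lie in a stable finite subalgebra -/
theorem exists_stable_finite_subalgebra (hf : IsEquiv (A := A) (IsScalarTower.toAlgHom k S R)) (F : Finset R)
    (hF : ∀ a ∈ F, IsIntegral S a) :
    ∃ B : Subalgebra S R, (↑F : Set R) ⊆ B ∧ Module.Finite S B ∧
      (∀ (g : A →ₐ[k] k), ∀ b ∈ B, actAlg R g b ∈ B) ∧
      IsSubcomod (k := k) (A := A) (B.restrictScalars k).toSubmodule := by
  classical
  obtain ⟨U, hU, hle, hmin, hfg⟩ := GrothLib.Hopf.Comod.exists_smallest (k := k) (C := A) (Submodule.span k (↑F : Set R))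
  have hUint : U ≤ ((integralClosure S R).restrictScalars k).toSubmodule :=
    hmin _ (isSubcomod_integralClosure hf) (Submodule.span_le.2 fun a ha => hF a ha)
  obtain ⟨s, hs⟩ := hfg (Submodule.fg_span (F.finite_toSet))
  have hsU : ∀ a ∈ s, a ∈ U := fun a ha => hs ▸ Submodule.subset_span ha
  let B : Subalgebra S R := Algebra.adjoin S (↑s : Set R)
  have hUB : U ≤ (B.restrictScalars k).toSubmodule := hs ▸ Submodule.span_le.2 Algebra.subset_adjoin
  have hact : ∀ (g : A →ₐ[k] k), ∀ b ∈ B, actAlg R g b ∈ B := by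
    intro g b hb
    induction hb using Algebra.adjoin_induction with
    | mem a ha => exact hUB (by rw [actAlg_apply]; exact GrothLib.Hopf.Comod.op_mem_of_isSubcomod hU (hsU a ha) g.toLinearMap)
    | algebraMap c =>
      rw [show algebraMap S R c = IsScalarTower.toAlgHom k S R c from rfl, hf.actAlg_map]
      exact B.algebraMap_mem _
    | add a b _ _ ha hb => rw [map_add]; exact B.add_mem ha hb
    | mul a b _ _ ha hb => rw [map_mul]; exact B.mul_mem ha hb
  have hfin : (Subalgebra.toSubmodule B).FG := fg_adjoin_of_finite s.finite_toSet fun a ha => hUint (hsU a ha)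
  exact ⟨B, fun a ha => hUB (hle (Submodule.subset_span ha)), Module.Finite.iff_fg.2 hfin, hact,
    isSubcomod_of_act _ fun g b hb => by rw [← actAlg_apply]; exact hact g b hb⟩

end GrothLib.GLSlice
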