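import Groth.Agent.Lib.GLSlice.Cartesian
import Groth.Agent.Lib.GLSlice.Zmt
import Mathlib.RingTheory.Unramified.LocalStructure
import Mathlib.RingTheory.Spectrum.Prime.Chevalley

/-!
# Luna's fundamental lemma at a closed orbit
-/

universe u

open TensorProduct HopfRep GLin

namespace GrothLib.GLSlice

variable {k : Type u} [Field k] [IsAlgClosed k] {A : Type u} [CommRing A] [IsReduced A] [HopfAlgebra k A]
  [Algebra.FiniteType k A]

set_option maxHeartbeats 1000000 in
/-- the saturated neighbourhood -/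
theorem exists_saturated (hG : IsLinearlyReductive k A)
    (S : Type u) [CommRing S] [IsReduced S] [Algebra k S] [Algebra.FiniteType k S] [Comod k A S] [IsCoactAlg k A S]
    (R : Type u) [CommRing R] [IsReduced R] [Algebra k R] [Algebra.FiniteType k R] [Comod k A R] [IsCoactAlg k A R]
    [Algebra S R] [IsScalarTower k S R]
    (hf : IsEquiv (A := A) (IsScalarTower.toAlgHom k S R))
    (S₀ : Type u) [CommRing S₀] [Algebra k S₀] [Algebra S₀ S] [IsScalarTower k S₀ S]
    (hS₀i : Function.Injective (algebraMap S₀ S)) (hS₀ : (IsScalarTower.toAlgHom k S₀ S).range = GLin.invariants k A S)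
    (R₀ : Type u) [CommRing R₀] [Algebra k R₀] [Algebra R₀ R] [IsScalarTower k R₀ R]
    (hR₀i : Function.Injective (algebraMap R₀ R)) (hR₀ : (IsScalarTower.toAlgHom k R₀ R).range = GLin.invariants k A R)
    [Algebra S₀ R₀] [Algebra S₀ R] [IsScalarTower S₀ S R] [IsScalarTower S₀ R₀ R]
    (x : R →ₐ[k] k) (m : Ideal R) [m.IsMaximal] (hm : m = RingHom.ker x.toRingHom)
    (het : Algebra.IsEtaleAt S m)
    (hy : GLin.IsClosedOrbit k A (x.comp (IsScalarTower.toAlgHom k S R)))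
    (hinj : ∀ g : A →ₐ[k] k, GLin.actPt k g (x.comp (IsScalarTower.toAlgHom k S R)) = x.comp (IsScalarTower.toAlgHom k S R) →
      GLin.actPt k g x = x) :
    ∃ (f : R₀) (g : S₀), x (algebraMap R₀ R (f * algebraMap S₀ R₀ g)) ≠ 0 ∧
      (∀ P : Ideal S, P.IsPrime → algebraMap S₀ S g ∉ P →
        ∃ Q : Ideal R, Q.IsPrime ∧ algebraMap R₀ R (f * algebraMap S₀ R₀ g) ∉ Q ∧ Q.comap (algebraMap S R) = P) ∧
      (∀ (Q : Ideal R) [Q.IsPrime], algebraMap R₀ R (f * algebraMap S₀ R₀ g) ∉ Q → Algebra.IsEtaleAt S Q) ∧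
      (∀ x' : R →ₐ[k] k, x' (algebraMap R₀ R (f * algebraMap S₀ R₀ g)) ≠ 0 → GLin.IsClosedOrbit k A x' →
        GLin.IsClosedOrbit k A (x'.comp (IsScalarTower.toAlgHom k S R))) ∧
      (∀ (q : Ideal R₀) [q.IsPrime], f * algebraMap S₀ R₀ g ∉ q → Algebra.IsEtaleAt S₀ q) ∧
      (∀ z : S ⊗[S₀] R₀, Algebra.TensorProduct.productMap (IsScalarTower.toAlgHom S₀ S R) (IsScalarTower.toAlgHom S₀ R₀ R) z = 0 →
        ∃ n : ℕ, ((1 : S) ⊗ₜ[S₀] (f * algebraMap S₀ R₀ g)) ^ n * z = 0) ∧
      (∀ r : R, ∃ (n : ℕ) (z : S ⊗[S₀] R₀),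
        Algebra.TensorProduct.productMap (IsScalarTower.toAlgHom S₀ S R) (IsScalarTower.toAlgHom S₀ R₀ R) z =
          algebraMap R₀ R (f * algebraMap S₀ R₀ g) ^ n * r) := by
  classical
  set θ : S →ₐ[k] R := IsScalarTower.toAlgHom k S R
  set σ : S₀ →ₐ[k] S := IsScalarTower.toAlgHom k S₀ S
  set ι : R₀ →ₐ[k] R := IsScalarTower.toAlgHom k R₀ R
  have hsq : ∀ a : S₀, ι (algebraMap S₀ R₀ a) = θ (σ a) := fun a => by
    change algebraMap R₀ R (algebraMap S₀ R₀ a) = algebraMap S R (algebraMap S₀ S a)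
    rw [← IsScalarTower.algebraMap_apply, ← IsScalarTower.algebraMap_apply]
  haveI : IsScalarTower k S₀ R₀ := IsScalarTower.of_algebraMap_eq fun c => hR₀i (by
    change ι (algebraMap k R₀ c) = ι (algebraMap S₀ R₀ (algebraMap k S₀ c))
    rw [hsq, AlgHom.commutes, AlgHom.commutes, AlgHom.commutes])
  have hιinv : ∀ a, ι a ∈ GLin.invariants k A R := fun a => hR₀ ▸ (ι.mem_range_self a)
  have hσinv : ∀ a, σ a ∈ GLin.invariants k A S := fun a => hS₀ ▸ (σ.mem_range_self a)
  haveI : Algebra.FiniteType k S₀ := finiteType_of_range_eq hG σ hS₀i hS₀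
  haveI : Algebra.FiniteType k R₀ := finiteType_of_range_eq hG ι hR₀i hR₀
  haveI : IsNoetherianRing S₀ := Algebra.FiniteType.isNoetherianRing k S₀
  haveI : Algebra.FiniteType S₀ R₀ := Algebra.FiniteType.of_restrictScalars_finiteType k S₀ R₀
  haveI : Algebra.FinitePresentation S₀ R₀ := Algebra.FinitePresentation.of_finiteType.1 inferInstance
  haveI : Algebra.FiniteType S R := Algebra.FiniteType.of_restrictScalars_finiteType k S R
  -- Zariski's main theorem
  haveI : Algebra.FormallyUnramified S (Localization.AtPrime m) :=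
    (Algebra.FormallyEtale.iff_formallyUnramified_and_formallySmooth.mp het).1
  haveI : Algebra.QuasiFiniteAt S m := inferInstance
  obtain ⟨r, hrm, hr, hrx⟩ := Algebra.zariskisMainProperty_iff.1 (Algebra.ZariskisMainProperty.of_finiteType (R := S) m)
  obtain ⟨gens, hgens⟩ := (Algebra.FiniteType.out : (⊤ : Subalgebra k R).FG)
  choose e he using hrx
  obtain ⟨B, hFB, hBfin, hBact, hBsub⟩ := exists_stable_finite_subalgebra hf (insert r (gens.image fun a => r ^ e a * a))
    (fun a ha => by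
      rcases Finset.mem_insert.1 ha with rfl | ha
      · exact hr
      · obtain ⟨b, -, rfl⟩ := Finset.mem_image.1 ha
        exact he b)
  have hrB : r ∈ B := hFB (Finset.mem_insert_self _ _)
  have hrpow : ∀ a : R, ∃ n, r ^ n * a ∈ B := by
    intro a
    have ha : a ∈ Algebra.adjoin k (↑gens : Set R) := hgens ▸ Algebra.mem_top
    induction ha using Algebra.adjoin_induction with
    | mem b hb => exact ⟨e b, hFB (Finset.mem_insert_of_mem (Finset.mem_image_of_mem _ hb))⟩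
    | algebraMap c => exact ⟨0, by rw [pow_zero, one_mul, IsScalarTower.algebraMap_apply k S R]; exact B.algebraMap_mem _⟩
    | add a b _ _ ha hb =>
      obtain ⟨n, hn⟩ := ha; obtain ⟨l, hl⟩ := hb
      refine ⟨n + l, ?_⟩
      rw [mul_add, pow_add, mul_right_comm, mul_assoc (r ^ n) (r ^ l) b]
      exact B.add_mem (B.mul_mem hn (pow_mem hrB l)) (B.mul_mem (pow_mem hrB n) hl)
    | mul a b _ _ ha hb =>
      obtain ⟨n, hn⟩ := ha; obtain ⟨l, hl⟩ := hb
      exact ⟨n + l, by rw [pow_add, mul_mul_mul_comm]; exact B.mul_mem hn hl⟩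
  letI cB : Comod k A B := subComod (B.restrictScalars k) hBsub
  haveI : IsCoactAlg k A B := subComod_isCoactAlg (B.restrictScalars k) hBsub
  let jk : B →ₐ[k] R := B.val.restrictScalars k
  have hj : IsEquiv (A := A) jk := isEquiv_of_map jk (subComod_isEquiv (B.restrictScalars k) hBsub)
  have hfB : IsEquiv (A := A) (IsScalarTower.toAlgHom k S B) := by
    refine LinearMap.ext fun s => ?_
    have hinjT : Function.Injective (jk.toLinearMap.rTensor A) :=
      Module.Flat.rTensor_preserves_injective_linearMap _ Subtype.val_injective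
    refine hinjT ?_
    simp only [LinearMap.comp_apply]
    rw [← GrothLib.Comodule.IsComodHom.apply hj, ← LinearMap.rTensor_comp_apply]
    exact GrothLib.Comodule.IsComodHom.apply hf s
  haveI : Algebra.FiniteType k B := Algebra.FiniteType.trans (S := S) inferInstance inferInstance
  haveI : IsReduced B := isReduced_of_injective jk Subtype.val_injective
  -- the image point
  set x'' : B →ₐ[k] k := x.comp jk with hx''def
  have hy'' : GLin.IsClosedOrbit k A x'' := (isClosedOrbit_iff_comp hfB x'').2 hy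
  let m'' : Ideal B := RingHom.ker x''.toRingHom
  haveI : m''.IsMaximal := GrothLib.AffQuot.ker_isMaximal x''
  have hrx' : x r ≠ 0 := fun h => hrm (by rw [hm]; exact h)
  have hR' : ∀ a : R, ∃ n : ℕ, B.val (⟨r, hrB⟩ : B) ^ n * a ∈ B.val.range := fun a => by
    obtain ⟨n, hn⟩ := hrpow a
    exact ⟨n, ⟨⟨_, hn⟩, rfl⟩⟩
  have het'' : Algebra.IsEtaleAt S m'' :=
    (isEtaleAt_iff_of_away B.val Subtype.val_injective ⟨r, hrB⟩ hR' m m'' (by rw [hm]; rfl) hrm).2 het
  have hinj'' : ∀ g : A →ₐ[k] k, GLin.actPt k g (x''.comp (IsScalarTower.toAlgHom k S B)) =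
      x''.comp (IsScalarTower.toAlgHom k S B) → GLin.actPt k g x'' = x'' := fun g hg => by
    rw [hx''def, hj.actPt_comp, hinj g hg]
  -- the invariants of B
  let B₀ := GLin.invariants k A B
  let σB : S₀ →ₐ[k] B₀ := ((IsScalarTower.toAlgHom k S B).comp σ).codRestrict B₀ fun a => by
    change Comod.coact (k := k) (A := A) _ = _ ⊗ₜ[k] (1 : A)
    rw [AlgHom.comp_apply, show Comod.coact (k := k) (A := A) ((IsScalarTower.toAlgHom k S B) (σ a)) = _ from
      GrothLib.Comodule.IsComodHom.apply hfB (σ a), show Comod.coact (k := k) (A := A) (σ a) = _ from hσinv a,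
      LinearMap.rTensor_tmul]
    rfl
  letI : Algebra S₀ B₀ := σB.toRingHom.toAlgebra
  haveI : IsScalarTower S₀ B₀ B := IsScalarTower.of_algebraMap_eq fun a => Subtype.ext (IsScalarTower.algebraMap_apply S₀ S R a)
  haveI : IsScalarTower S₀ S B := IsScalarTower.of_algebraMap_eq fun a => Subtype.ext (IsScalarTower.algebraMap_apply S₀ S R a)
  have hB₀ : (IsScalarTower.toAlgHom k B₀ B).range = GLin.invariants k A B := Subalgebra.range_val _
  obtain ⟨u, hux, hu0, huS, huker, huim⟩ :=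
    exists_saturated_finite hG S B hfB S₀ hS₀i hS₀ B₀ Subtype.val_injective hB₀ x'' hy'' m'' rfl het'' hinj''
  -- the locus where B is open in R
  let C : Ideal B :=
    { carrier := {b | ∀ a : R, ∃ n, (b : R) ^ n * a ∈ B}
      add_mem' := fun {b c} hb hc a => by
        obtain ⟨n, hn⟩ := hb a; obtain ⟨l, hl⟩ := hc a
        refine ⟨n + l, ?_⟩
        rw [AddMemClass.coe_add, add_pow, Finset.sum_mul]
        refine sum_mem fun i hi => ?_
        rcases le_or_gt n i with hni | hni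
        · rw [show (b : R) ^ i * (c : R) ^ (n + l - i) * ((n + l).choose i : R) * a =
            (b : R) ^ (i - n) * (c : R) ^ (n + l - i) * ((n + l).choose i : R) * ((b : R) ^ n * a) by
              rw [show (b : R) ^ i = (b : R) ^ (i - n) * (b : R) ^ n by rw [← pow_add, Nat.sub_add_cancel hni]]
              ring]
          exact B.mul_mem (B.mul_mem (B.mul_mem (pow_mem b.2 _) (pow_mem c.2 _)) (natCast_mem B _)) hn
        · have hil : l ≤ n + l - i := by omega
          rw [show (b : R) ^ i * (c : R) ^ (n + l - i) * ((n + l).choose i : R) * a =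
            (b : R) ^ i * (c : R) ^ (n + l - i - l) * ((n + l).choose i : R) * ((c : R) ^ l * a) by
              rw [show (c : R) ^ (n + l - i) = (c : R) ^ (n + l - i - l) * (c : R) ^ l by rw [← pow_add, Nat.sub_add_cancel hil]]
              ring]
          exact B.mul_mem (B.mul_mem (B.mul_mem (pow_mem b.2 _) (pow_mem c.2 _)) (natCast_mem B _)) hl
      zero_mem' := fun a => ⟨1, by simp⟩
      smul_mem' := fun c b hb a => by
        obtain ⟨n, hn⟩ := hb a
        refine ⟨n, ?_⟩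
        rw [smul_eq_mul, MulMemClass.coe_mul, mul_pow, mul_assoc]
        exact B.mul_mem (pow_mem c.2 n) hn }
  obtain ⟨h, hhinv, hhC, hhx⟩ : ∃ h ∈ GLin.invariants k A B, h ∈ C ∧ x'' h ≠ 0 := by
    have hCT : ∀ (g : A →ₐ[k] k), ∀ b ∈ C, actAlg B g b ∈ C := fun g b hb a => by
      obtain ⟨g', hg'⟩ := exists_actAlg_inv (R := R) g
      obtain ⟨n, hn⟩ := hb (actAlg R g' a)
      refine ⟨n, ?_⟩
      rw [show ((actAlg B g b : B) : R) = actAlg R g (b : R) from (hj.actAlg_map g b).symm, ← hg' a, ← map_pow,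
        ← map_mul]
      exact hBact g _ hn
    refine exists_invariant_not_eq_zero hG C hCT x'' fun z hz => ?_
    by_contra hne
    push Not at hne
    exact hrx' (le_ker_of_cl C (fun g b hb => actAlg_apply g b ▸ hCT g b hb) hz
      (GrothLib.AffQuot.cl_of_closed hG ((GrothLib.AffQuot.isClosedOrbit_iff x'').1 hy'') hne) ⟨r, hrB⟩ hrpow)
  set w : B := (u : B) * h with hw
  have hwinv : w ∈ GLin.invariants k A B := (GLin.invariants k A B).mul_mem u.2 hhinv
  have hwC : ∀ a : R, ∃ n, (w : R) ^ n * a ∈ B := fun a => C.mul_mem_left (u : B) hhC a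
  have hinvR : ∀ b : B, b ∈ GLin.invariants k A B → (b : R) ∈ GLin.invariants k A R := fun b hb => by
    change Comod.coact (k := k) (A := A) (jk b) = jk b ⊗ₜ[k] (1 : A)
    rw [show Comod.coact (k := k) (A := A) (jk b) = _ from GrothLib.Comodule.IsComodHom.apply hj b,
      show Comod.coact (k := k) (A := A) b = _ from hb, LinearMap.rTensor_tmul]
    rfl
  have hinvB : ∀ b : B, (b : R) ∈ GLin.invariants k A R → b ∈ GLin.invariants k A B := fun b hb => by
    have hinjT : Function.Injective (jk.toLinearMap.rTensor A) :=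
      Module.Flat.rTensor_preserves_injective_linearMap _ Subtype.val_injective
    refine hinjT ?_
    rw [← GrothLib.Comodule.IsComodHom.apply hj, LinearMap.rTensor_tmul]
    exact hb
  choose emb hemb using fun b : B₀ => (AlgHom.mem_range ι).1 (hR₀ ▸ hinvR b b.2)
  let jj : B₀ →ₐ[S₀] R₀ :=
    { toFun := emb
      map_one' := hR₀i ((hemb 1).trans (map_one ι).symm)
      map_zero' := hR₀i ((hemb 0).trans (map_zero ι).symm)
      map_mul' := fun a b => hR₀i (by
        change ι (emb (a * b)) = ι (emb a * emb b)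
        rw [map_mul, hemb, hemb, hemb]; rfl)
      map_add' := fun a b => hR₀i (by
        change ι (emb (a + b)) = ι (emb a + emb b)
        rw [map_add, hemb, hemb, hemb]; rfl)
      commutes' := fun a => hR₀i ((hemb _).trans (hsq a).symm) }
  have hjj : ∀ b : B₀, ι (jj b) = ((b : B) : R) := hemb
  have hjjinj : Function.Injective jj := fun a b hab => Subtype.ext (Subtype.ext (by rw [← hjj, ← hjj, hab]))
  let w₀ : B₀ := ⟨w, hwinv⟩
  set f : R₀ := jj w₀ with hfdef
  have hfR : ι f = (w : R) := hjj w₀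
  have hloc : ∀ a : R₀, ∃ n : ℕ, f ^ n * a ∈ jj.range := fun a => by
    obtain ⟨n, hn⟩ := hwC (ι a)
    have hmem : (⟨_, hn⟩ : B) ∈ GLin.invariants k A B :=
      hinvB _ ((GLin.invariants k A R).mul_mem (pow_mem (hinvR w hwinv) n) (hιinv a))
    refine ⟨n, ⟨⟨_, hmem⟩, hR₀i ?_⟩⟩
    change ι (jj _) = ι (f ^ n * a)
    rw [hjj, map_mul, map_pow, hfR]
  have het0 : ∀ (q : Ideal R₀) [q.IsPrime], f ∉ q → Algebra.IsEtaleAt S₀ q := fun q _ hq => by
    haveI := Ideal.IsPrime.comap (jj : B₀ →+* R₀) (K := q)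
    refine (isEtaleAt_iff_of_away jj hjjinj w₀ hloc q (q.comap jj.toRingHom) rfl hq).1 (hu0 _ fun hu => hq ?_)
    rw [hfdef, show w₀ = u * ⟨h, hhinv⟩ from rfl, map_mul]
    exact q.mul_mem_right _ hu
  -- a basic open around the image in the base
  have hfx : x (ι f) ≠ 0 := by
    rw [hfR, hw]
    change x ((u : B) * (h : B) : R) ≠ 0
    rw [map_mul]
    exact mul_ne_zero hux hhx
  let p : Ideal S₀ := RingHom.ker ((x.comp θ).comp σ)
  haveI hp : p.IsPrime := RingHom.ker_isPrime _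
  obtain ⟨g, hgp, hgsub⟩ : ∃ g : S₀, g ∉ p ∧
      ∀ p' : Ideal S₀, p'.IsPrime → g ∉ p' → ∃ q : Ideal R₀, q.IsPrime ∧ f ∉ q ∧ q.comap (algebraMap S₀ R₀) = p' := by
    let L := Localization.Away f
    haveI : Algebra.Etale S₀ L := Algebra.basicOpen_subset_etaleLocus_iff_etale.1 fun P hP => het0 P.asIdeal hP
    have hopen := PrimeSpectrum.isOpenMap_comap_of_hasGoingDown_of_finitePresentation (R := S₀) (S := L) _ isOpen_univ
    have hq0 : f ∉ RingHom.ker (x.comp ι) := fun h' => hfx h'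
    obtain ⟨Qx, hQx⟩ : (⟨RingHom.ker (x.comp ι), RingHom.ker_isPrime _⟩ : PrimeSpectrum R₀) ∈
        Set.range (PrimeSpectrum.comap (algebraMap R₀ L)) := by
      rw [PrimeSpectrum.localization_away_comap_range L f]; exact hq0
    have hmem : (⟨p, hp⟩ : PrimeSpectrum S₀) ∈ PrimeSpectrum.comap (algebraMap S₀ L) '' Set.univ := by
      refine ⟨Qx, trivial, PrimeSpectrum.ext (Ideal.ext fun a => ?_)⟩
      change algebraMap S₀ L a ∈ Qx.asIdeal ↔ _
      rw [IsScalarTower.algebraMap_apply S₀ R₀ L]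
      have := congrArg PrimeSpectrum.asIdeal hQx
      change Qx.asIdeal.comap (algebraMap R₀ L) = _ at this
      rw [← Ideal.mem_comap, this, RingHom.mem_ker, RingHom.mem_ker]
      change x (ι (algebraMap S₀ R₀ a)) = 0 ↔ x (θ (σ a)) = 0
      rw [hsq]
    obtain ⟨_, ⟨g, rfl⟩, hg, hgs⟩ := PrimeSpectrum.isTopologicalBasis_basic_opens.exists_subset_of_mem_open hmem hopen
    refine ⟨g, hg, fun p' hp' hgp' => ?_⟩
    obtain ⟨Q, -, hQ⟩ := hgs (show (⟨p', hp'⟩ : PrimeSpectrum S₀) ∈ PrimeSpectrum.basicOpen g from hgp')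
    refine ⟨Q.asIdeal.comap (algebraMap R₀ L), Ideal.IsPrime.comap _, fun hfQ => ?_, ?_⟩
    · exact Q.isPrime.ne_top (Ideal.eq_top_of_isUnit_mem _ hfQ (IsLocalization.Away.algebraMap_isUnit (S := L) f))
    · rw [Ideal.comap_comap, ← IsScalarTower.algebraMap_eq]
      exact congrArg PrimeSpectrum.asIdeal hQ
  -- the canonical map
  let ΦB := Algebra.TensorProduct.productMap (IsScalarTower.toAlgHom S₀ S B) (IsScalarTower.toAlgHom S₀ B₀ B)
  let Φ := Algebra.TensorProduct.productMap (IsScalarTower.toAlgHom S₀ S R) (IsScalarTower.toAlgHom S₀ R₀ R)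
  let Jm : S ⊗[S₀] B₀ →ₐ[S₀] S ⊗[S₀] R₀ := Algebra.TensorProduct.map (AlgHom.id S₀ S) jj
  have hΦJ : ∀ z, Φ (Jm z) = ((ΦB z : B) : R) := fun z => by
    induction z using TensorProduct.induction_on with
    | zero => simp
    | tmul s b =>
      change algebraMap S R s * ι (jj b) = _
      rw [hjj]; rfl
    | add a b ha hb => rw [map_add, map_add, ha, hb, map_add, AddMemClass.coe_add]
  have hlift : ∀ z : S ⊗[S₀] R₀, ∃ (n : ℕ) (z' : S ⊗[S₀] B₀), Jm z' = ((1 : S) ⊗ₜ f) ^ n * z := fun z => by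
    induction z using TensorProduct.induction_on with
    | zero => exact ⟨0, 0, by simp⟩
    | tmul s a =>
      obtain ⟨n, b, hb⟩ := hloc a
      refine ⟨n, s ⊗ₜ b, ?_⟩
      rw [Algebra.TensorProduct.tmul_pow, Algebra.TensorProduct.tmul_mul_tmul, one_pow, one_mul]
      exact congrArg (s ⊗ₜ[S₀] ·) hb
    | add a b ha hb =>
      obtain ⟨n, a', ha'⟩ := ha; obtain ⟨l, b', hb'⟩ := hb
      refine ⟨n + l, ((1 : S) ⊗ₜ w₀) ^ l * a' + ((1 : S) ⊗ₜ w₀) ^ n * b', ?_⟩
      rw [map_add, map_mul, map_mul, map_pow, map_pow, show Jm ((1 : S) ⊗ₜ w₀) = (1 : S) ⊗ₜ f from rfl, ha', hb', pow_add]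
      ring
  have hker : ∀ z, Φ z = 0 → ∃ n : ℕ, ((1 : S) ⊗ₜ[S₀] f) ^ n * z = 0 := fun z hz => by
    obtain ⟨n, z', hz'⟩ := hlift z
    have h1 : ΦB z' = 0 := Subtype.ext (by rw [← hΦJ, hz', map_mul, hz, mul_zero]; rfl)
    obtain ⟨l, hl⟩ := huker z' h1
    refine ⟨l + n, ?_⟩
    have h2 := congrArg Jm (congrArg (((1 : S) ⊗ₜ[S₀] (⟨h, hhinv⟩ : B₀)) ^ l * ·) hl)
    rw [mul_zero, map_zero, ← mul_assoc, ← mul_pow, Algebra.TensorProduct.tmul_mul_tmul, one_mul, map_mul, map_pow, hz',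
      mul_comm (⟨h, hhinv⟩ : B₀) u, show Jm ((1 : S) ⊗ₜ (u * ⟨h, hhinv⟩)) = (1 : S) ⊗ₜ f from rfl] at h2
    rw [pow_add, mul_assoc]
    exact h2
  have him : ∀ a : R, ∃ (n : ℕ) (z : S ⊗[S₀] R₀), Φ z = ι f ^ n * a := fun a => by
    obtain ⟨n, hn⟩ := hwC a
    obtain ⟨l, z', hz'⟩ := huim ⟨_, hn⟩
    refine ⟨l + n, ((1 : S) ⊗ₜ jj ⟨h, hhinv⟩) ^ l * Jm z', ?_⟩
    rw [map_mul, map_pow, hΦJ, hz', show Φ ((1 : S) ⊗ₜ jj ⟨h, hhinv⟩) = (h : R) by
      change algebraMap S R 1 * ι (jj _) = _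
      rw [map_one, one_mul, hjj], hfR]
    change (h : R) ^ l * (((u : B) : R) ^ l * ((w : R) ^ n * a)) = _
    rw [hw, MulMemClass.coe_mul, pow_add]
    ring
  let v : R₀ := f * algebraMap S₀ R₀ g
  have hgx : x (θ (σ g)) ≠ 0 := hgp
  refine ⟨f, g, ?_, ?_, ?_, ?_, fun q _ hq => het0 q fun h' => hq (q.mul_mem_right _ h'), ?_, ?_⟩
  · change x (ι (f * algebraMap S₀ R₀ g)) ≠ 0
    rw [map_mul, map_mul, hsq]
    exact mul_ne_zero hfx hgx
  · intro P hP hgP
    haveI := hP
    obtain ⟨q, hq, hfq, hqp⟩ := hgsub (P.comap (algebraMap S₀ S)) (Ideal.IsPrime.comap _) hgP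
    haveI := hq
    obtain ⟨T, hT, hTP, hTq⟩ := exists_prime_tensor q P hqp
    haveI := hT
    have hTf : (1 : S) ⊗ₜ[S₀] f ∉ T := fun h' => hfq (hTq ▸ h')
    obtain ⟨Q, hQ, hQf, hQT⟩ := exists_prime_comap_eq Φ.toRingHom ((1 : S) ⊗ₜ f) hker (fun a => by
      obtain ⟨n, z, hz⟩ := him a
      refine ⟨n, z, ?_⟩
      change Φ z = Φ ((1 : S) ⊗ₜ f) ^ n * a
      rw [hz, show Φ ((1 : S) ⊗ₜ f) = ι f by change algebraMap S R 1 * ι f = ι f; rw [map_one, one_mul]]) T hTf
    refine ⟨Q, hQ, fun h' => ?_, Ideal.ext fun s => ?_⟩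
    · change ι (f * algebraMap S₀ R₀ g) ∈ Q at h'
      rw [map_mul, hsq] at h'
      rcases hQ.mem_or_mem h' with h1 | h1
      · refine hQf ?_
        change algebraMap S R 1 * ι f ∈ Q
        rwa [map_one, one_mul]
      · refine hgP ?_
        rw [← hTP, ← hQT]
        change Φ (σ g ⊗ₜ (1 : R₀)) ∈ Q
        change algebraMap S R (σ g) * ι 1 ∈ Q
        rw [map_one, mul_one]; exact h1
    · rw [← hTP, ← hQT]
      change algebraMap S R s ∈ Q ↔ algebraMap S R s * ι 1 ∈ Q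
      rw [map_one, mul_one]
  · intro Q _ hQ
    have hQf : (w : R) ∉ Q := fun h' => hQ (by
      change ι (f * algebraMap S₀ R₀ g) ∈ Q
      rw [map_mul, hfR]; exact Q.mul_mem_right _ h')
    haveI := Ideal.IsPrime.comap (B.val : B →+* R) (K := Q)
    refine (isEtaleAt_iff_of_away B.val Subtype.val_injective w (fun a => ?_) Q (Q.comap B.val.toRingHom) rfl hQf).1
      (huS _ fun h' => hQf ?_)
    · obtain ⟨n, hn⟩ := hwC a
      exact ⟨n, ⟨⟨_, hn⟩, rfl⟩⟩
    · rw [hw, MulMemClass.coe_mul]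
      exact Q.mul_mem_right _ h'
  · intro x' hx' hclosed
    have hwx : x' (w : R) ≠ 0 := fun h' => hx' (by
      change x' (ι (f * algebraMap S₀ R₀ g)) = 0
      rw [map_mul, map_mul, hfR, h', zero_mul])
    refine (isClosedOrbit_iff_comp hfB (x'.comp jk)).1 ((GrothLib.AffQuot.isClosedOrbit_iff _).2 fun z hz => ?_)
    have hzw : z w ≠ 0 := by rw [hz.invariant hwinv]; exact hwx
    obtain ⟨Q, hQ, -, hQz⟩ := exists_prime_comap_eq (B.val : B →+* R) w
      (fun b hb => ⟨0, by rw [pow_zero, one_mul]; exact Subtype.ext hb⟩)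
      (fun a => by obtain ⟨n, hn⟩ := hwC a; exact ⟨n, ⟨_, hn⟩, rfl⟩) (RingHom.ker z) hzw
    haveI := hQ
    obtain ⟨z', hz'Q, hz'w⟩ := GrothLib.AffQuot.exists_point_ne_zero (k := k)
      (p := Q) (f := (w : R)) (fun h' => hzw (hQz.le h'))
    have hzz : z'.comp jk = z := (GrothLib.AffQuot.eq_of_ker_le (z := z) (w := z'.comp jk)
      fun b hb => hz'Q _ (hQz.ge hb)).symm
    have hcl : GrothLib.AffQuot.Cl k A x' z' := fun a ha => by
      obtain ⟨n, hn⟩ := hwC a
      have h1 : GLin.orbitHom k A (x'.comp jk) (⟨_, hn⟩ : B) = 0 := by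
        rw [hj.orbitHom_comp]
        change GLin.orbitHom k A x' ((w : R) ^ n * a) = 0
        rw [map_mul, ha, mul_zero]
      have h2 : z' ((w : R) ^ n * a) = 0 := (AlgHom.congr_fun hzz ⟨_, hn⟩).trans (hz _ h1)
      rw [map_mul, map_pow] at h2
      exact (mul_eq_zero.1 h2).resolve_left (pow_ne_zero n hz'w)
    obtain ⟨g', hg'⟩ := (GrothLib.AffQuot.isClosedOrbit_iff x').1 hclosed z' hcl
    refine ⟨g', ?_⟩
    rw [hj.orbitHom_comp, ← AlgHom.comp_assoc, hg', hzz]
  · intro z hz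
    obtain ⟨n, hn⟩ := hker z hz
    refine ⟨n, ?_⟩
    rw [← one_mul (1 : S), ← Algebra.TensorProduct.tmul_mul_tmul, mul_pow, mul_right_comm, hn, zero_mul]
  · intro a
    obtain ⟨n, z, hz⟩ := him a
    refine ⟨n, ((1 : S) ⊗ₜ algebraMap S₀ R₀ g) ^ n * z, ?_⟩
    change Φ _ = ι (f * algebraMap S₀ R₀ g) ^ n * a
    rw [map_mul, map_pow, hz, map_mul ι, show Φ ((1 : S) ⊗ₜ algebraMap S₀ R₀ g) = ι (algebraMap S₀ R₀ g) by
      change algebraMap S R 1 * ι _ = _
      rw [map_one, one_mul]]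
    ring

end GrothLib.GLSlice
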